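import Cfsg.Agent.Lib.SympGeom.Basic
import Cfsg.Agent.Lib.RootCount.Symp

/-!
Orders of isometry groups of non-degenerate symmetric bilinear forms over finite fields of characteristic two.
-/

set_option autoImplicit false

namespace CfsgLib.SpInvolCent

open Module Matrix

variable {F : Type*} [Field F] [Fintype F] {U : Type*} [AddCommGroup U] [Module F U] [FiniteDimensional F U]

/-- The isometries of a bilinear form. -/
def Isom (B : LinearMap.BilinForm F U) : Type _ := {h : U ≃ₗ[F] U // ∀ x y, B (h x) (h y) = B x y}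

variable (F) in
/-- The order of the symplectic group of rank `k`. -/
def spOrd (k : ℕ) : ℕ :=
  Fintype.card F ^ (k ^ 2) * ∏ i ∈ Finset.range k, (Fintype.card F ^ (2 * (i + 1)) - 1)

/-- Isometry groups of non-degenerate alternating forms are symplectic groups. -/
theorem card_isom_alt (B : LinearMap.BilinForm F U) (hB : B.IsAlt) (hn : ∀ x, (∀ y, B x y = 0) → x = 0) :
    ∃ k, finrank F U = 2 * k ∧ Nat.card (Isom B) = spOrd F k := by
  obtain ⟨k, b, -⟩ := CfsgLib.RootCount.alt_basis B hB hn
  have hd : finrank F U = 2 * k := by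
    rw [finrank_eq_card_basis b, Fintype.card_sum, Fintype.card_fin, two_mul]
  refine ⟨k, hd, ?_⟩
  let B₀ : LinearMap.BilinForm F (Fin k ⊕ Fin k → F) := CfsgLib.SympGeom.sympBilin k F
  obtain ⟨f, hf⟩ := CfsgLib.RootCount.alt_equiv B B₀ hB CfsgLib.SympGeom.sympBilin_alt hn
    CfsgLib.SympGeom.sympBilin_nondeg.1 (by rw [hd, CfsgLib.SympGeom.finrank_space])
  rw [spOrd, ← CfsgLib.Linear.Symp.card_symplectic (m := k) (F := F)]
  let Φ : Isom B → symplecticGroup (Fin k) F := fun h =>
    ⟨LinearMap.toMatrix' (f.symm.trans (h.1.trans f)).toLinearMap,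
      CfsgLib.Linear.Symp.mem_of_form_mulVec fun u v => by
        simp only [LinearMap.toMatrix'_mulVec, LinearEquiv.coe_coe, LinearEquiv.trans_apply]
        show B₀ (f (h.1 (f.symm u))) (f (h.1 (f.symm v))) = B₀ u v
        rw [hf, h.2, ← hf, f.apply_symm_apply, f.apply_symm_apply]⟩
  refine Nat.card_congr (Equiv.ofBijective Φ ⟨fun h h' he => ?_, fun A => ?_⟩)
  · refine Subtype.ext (LinearEquiv.ext fun x => f.injective ?_)
    have := LinearMap.congr_fun (LinearMap.toMatrix'.injective (congrArg Subtype.val he :)) (f x)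
    simpa using this
  · have hinj : Function.Injective (Matrix.toLin' A.1) := fun x y hxy => by
      have := congrArg (fun v => (A⁻¹).1 *ᵥ v) hxy
      simpa [Matrix.mulVec_mulVec, ← Submonoid.coe_mul] using this
    let e := LinearEquiv.ofInjectiveEndo _ hinj
    refine ⟨⟨f.trans (e.trans f.symm), fun x y => ?_⟩, Subtype.ext ?_⟩
    · show B (f.symm (A.1.toLin' (f x))) (f.symm (A.1.toLin' (f y))) = B x y
      rw [← hf, f.apply_symm_apply, f.apply_symm_apply]
      show Cfsg.sympForm k F (A.1 *ᵥ f x) (A.1 *ᵥ f y) = _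
      rw [CfsgLib.Linear.Symp.form_mulVec A.2]
      exact hf x y
    · apply Matrix.toLin'.injective
      refine LinearMap.ext fun v => ?_
      simp [Φ, e]

variable [CharP F 2]

/-- The square root is linear: `g v v` is the square of `g v e`. -/
theorem exists_defect_vector (g : LinearMap.BilinForm F U) (hs : ∀ x y, g x y = g y x)
    (hn : ∀ x, (∀ y, g x y = 0) → x = 0) : ∃ e : U, ∀ v, g v v = g v e * g v e := by
  have : ExpChar F 2 := ExpChar.prime Nat.prime_two
  have : PerfectRing F 2 := inferInstance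
  have hsq : ∀ a : F, (frobeniusEquiv F 2).symm (a * a) = a := fun a => by
    rw [RingEquiv.symm_apply_eq, frobeniusEquiv_apply, frobenius_def, pow_two]
  let L : U →ₗ[F] F :=
    { toFun := fun v => (frobeniusEquiv F 2).symm (g v v)
      map_add' := fun x y => by
        rw [← map_add (frobeniusEquiv F 2).symm]
        congr 1
        simp only [map_add, LinearMap.add_apply, hs y x]
        linear_combination g x y * CharTwo.two_eq_zero (R := F)
      map_smul' := fun c x => by
        simp only [map_smul, LinearMap.smul_apply, smul_eq_mul, RingHom.id_apply]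
        rw [← mul_assoc, map_mul, hsq] }
  have hinj : Function.Injective g := (injective_iff_map_eq_zero _).2 fun x hx => hn x fun y => by rw [hx]; rfl
  obtain ⟨e, he⟩ := (LinearMap.injective_iff_surjective_of_finrank_eq_finrank Subspace.dual_finrank_eq.symm).1 hinj L
  refine ⟨e, fun v => ?_⟩
  rw [hs v e, he]
  show g v v = (frobeniusEquiv F 2).symm (g v v) * (frobeniusEquiv F 2).symm (g v v)
  have h := (frobeniusEquiv F 2).apply_symm_apply (g v v)
  rw [frobeniusEquiv_apply, frobenius_def, pow_two] at h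
  exact h.symm

omit [FiniteDimensional F U] [Fintype F] in
theorem fixes_defect_vector (g : LinearMap.BilinForm F U) (hs : ∀ x y, g x y = g y x)
    (hn : ∀ x, (∀ y, g x y = 0) → x = 0) {e : U} (he : ∀ v, g v v = g v e * g v e)
    (h : U ≃ₗ[F] U) (hh : ∀ x y, g (h x) (h y) = g x y) : h e = e := by
  refine sub_eq_zero.1 (hn _ fun y => ?_)
  obtain ⟨x, rfl⟩ := h.surjective y
  rw [map_sub, LinearMap.sub_apply, hh, hs e x, hs e (h x)]
  have h1 : g x e * g x e = g (h x) e * g (h x) e := by rw [← he, ← he, hh]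
  have h2 : (g x e - g (h x) e) * (g x e - g (h x) e) = 0 := by
    linear_combination h1 + (g (h x) e * g (h x) e - g x e * g (h x) e) * CharTwo.two_eq_zero (R := F)
  exact mul_self_eq_zero.1 h2

/-- Odd case: the isometries fix `e` and act on its orthogonal complement. -/
theorem card_isom_odd (g : LinearMap.BilinForm F U) (hs : ∀ x y, g x y = g y x)
    (hn : ∀ x, (∀ y, g x y = 0) → x = 0) (e : U) (he : ∀ v, g v v = g v e * g v e) (hee : g e e = 1) :
    ∃ k, finrank F U = 2 * k + 1 ∧ Nat.card (Isom g) = spOrd F k := by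
  let Z : Submodule F U := LinearMap.ker (g e)
  let π : U →ₗ[F] Z := LinearMap.codRestrict Z (LinearMap.id - (g e).smulRight e) fun v => by
    simp [Z, hee]
  have hπ : ∀ v, (π v : U) = v - g e v • e := fun v => rfl
  have hπZ : ∀ z : Z, π z = z := fun z => Subtype.ext (by rw [hπ, show g e z = 0 from z.2]; simp)
  let B := g.restrict Z
  have hB : B.IsAlt := fun z => by
    show g z z = 0
    rw [he, hs, show g e z = 0 from z.2, mul_zero]
  have hBn : ∀ x, (∀ y, B x y = 0) → x = 0 := fun x hx => Subtype.ext (hn _ fun v => by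
    have h1 : g x (π v : U) = 0 := hx (π v)
    rw [hπ, map_sub, map_smul, hs (x : U) e, show g e x = 0 from x.2, smul_zero, sub_zero] at h1
    exact h1)
  obtain ⟨k, hk, hcard⟩ := card_isom_alt B hB hBn
  let P : (F × Z) ≃ₗ[F] U := LinearEquiv.ofLinearMap
    ((LinearMap.toSpanSingleton F U e).coprod Z.subtype) ((g e).prod π)
    (by ext v; simp [hπ])
    (by
      refine LinearMap.ext fun x => ?_
      have h0 : g e x.2 = 0 := x.2.2
      refine Prod.ext ?_ (Subtype.ext ?_)
      · simp [hee, h0]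
      · simp [hπ, hee, h0])
  refine ⟨k, ?_, ?_⟩
  · rw [← P.finrank_eq, Module.finrank_prod, Module.finrank_self, hk, add_comm]
  rw [← hcard]
  have hfix : ∀ h : Isom g, h.1 e = e := fun h => fixes_defect_vector g hs hn he h.1 h.2
  have hpres : ∀ (h : Isom g) (z : Z), h.1 z ∈ Z := fun h z => by
    show g e (h.1 z) = 0
    rw [← hfix h, h.2]
    exact z.2
  let Φ : Isom g → Isom B := fun h =>
    ⟨LinearEquiv.ofInjectiveEndo ((h.1.toLinearMap ∘ₗ Z.subtype).codRestrict Z (hpres h))
      (fun x y hxy => Subtype.ext (h.1.injective (congrArg Subtype.val hxy :))), fun x y => h.2 x y⟩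
  have hΦ : ∀ h (z : Z), ((Φ h).1 z : U) = h.1 z := fun h z => rfl
  refine Nat.card_congr (Equiv.ofBijective Φ ⟨fun h h' hhh => ?_, fun s => ?_⟩)
  · refine Subtype.ext (LinearEquiv.ext fun v => ?_)
    obtain ⟨⟨a, z⟩, rfl⟩ := P.surjective v
    show h.1 (a • e + (z : U)) = h'.1 (a • e + (z : U))
    rw [map_add, map_add, map_smul, map_smul, hfix, hfix, ← hΦ, ← hΦ, hhh]
  · let E : U ≃ₗ[F] U := P.symm.trans (((LinearEquiv.refl F F).prodCongr s.1).trans P)
    have hE : ∀ (a : F) (z : Z), E (a • e + (z : U)) = a • e + (s.1 z : U) := fun a z => by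
      rw [show a • e + (z : U) = P (a, z) from rfl]
      simp only [E, LinearEquiv.trans_apply, LinearEquiv.symm_apply_apply]
      rfl
    refine ⟨⟨E, fun u v => ?_⟩, Subtype.ext (LinearEquiv.ext fun z => Subtype.ext ?_)⟩
    · obtain ⟨⟨a, z⟩, rfl⟩ := P.surjective u
      obtain ⟨⟨b, w⟩, rfl⟩ := P.surjective v
      show g (E (a • e + (z : U))) (E (b • e + (w : U))) = g (a • e + (z : U)) (b • e + (w : U))
      have h1 : g (s.1 z : U) (s.1 w) = g (z : U) w := s.2 z w
      simp only [hE, map_add, map_smul, LinearMap.add_apply, LinearMap.smul_apply, h1, hs _ e,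
        show g e (z : U) = 0 from z.2, show g e (w : U) = 0 from w.2,
        show g e (s.1 z : U) = 0 from (s.1 z).2, show g e (s.1 w : U) = 0 from (s.1 w).2]
    · show E (z : U) = (s.1 z : U)
      have := hE 0 z
      simpa using this

/-- Even non-alternating case. -/
theorem card_isom_even (g : LinearMap.BilinForm F U) (hs : ∀ x y, g x y = g y x)
    (hn : ∀ x, (∀ y, g x y = 0) → x = 0) (e : U) (he : ∀ v, g v v = g v e * g v e) (hee : g e e = 0)
    (hne : e ≠ 0) :
    ∃ k, finrank F U = 2 * k + 2 ∧ Nat.card (Isom g) = Fintype.card F ^ (2 * k + 1) * spOrd F k := by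
  obtain ⟨f₀, hf₀⟩ : ∃ f₀, g e f₀ ≠ 0 := by
    by_contra h
    push Not at h
    exact hne (hn e h)
  obtain ⟨f, hf⟩ : ∃ f, g e f = 1 := ⟨(g e f₀)⁻¹ • f₀, by rw [map_smul, smul_eq_mul, inv_mul_cancel₀ hf₀]⟩
  have hff : g f f = 1 := by rw [he, hs, hf, mul_one]
  let Z : Submodule F U := LinearMap.ker (g e) ⊓ LinearMap.ker (g f)
  let cb : U →ₗ[F] F := g e
  let ca : U →ₗ[F] F := g f - g e
  let π : U →ₗ[F] Z := LinearMap.codRestrict Z
    (LinearMap.id - ca.smulRight e - cb.smulRight f) fun v => by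
    simp [Z, ca, cb, hee, hf, hff, hs f e]
  have hπ : ∀ v, (π v : U) = v - ca v • e - cb v • f := fun v => rfl
  let P : (F × F × Z) ≃ₗ[F] U := LinearEquiv.ofLinearMap
    ((LinearMap.toSpanSingleton F U e).coprod ((LinearMap.toSpanSingleton F U f).coprod Z.subtype))
    (ca.prod (cb.prod π))
    (by ext v; simp [hπ])
    (by
      refine LinearMap.ext fun x => ?_
      have h1 : g e x.2.2 = 0 := x.2.2.2.1
      have h2 : g f x.2.2 = 0 := x.2.2.2.2
      refine Prod.ext ?_ (Prod.ext ?_ (Subtype.ext ?_))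
      · simp [ca, hee, hf, hff, hs f e, h1, h2]
      · simp [cb, hee, hf, h1]
      · simp [hπ, ca, cb, hee, hf, hff, hs f e, h1, h2]
        )
  have hP : ∀ a b (z : Z), P (a, b, z) = a • e + (b • f + (z : U)) := fun a b z => rfl
  have hform : ∀ a b (z : Z) a' b' (z' : Z),
      g (P (a, b, z)) (P (a', b', z')) = a * b' + b * a' + b * b' + g (z : U) z' := by
    intro a b z a' b' z'
    simp only [hP, map_add, map_smul, LinearMap.add_apply, LinearMap.smul_apply, smul_eq_mul, hee, hf, hff,
      hs f e, hs (z : U) e, hs (z : U) f, show g e (z : U) = 0 from z.2.1, show g f (z : U) = 0 from z.2.2,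
      show g e (z' : U) = 0 from z'.2.1, show g f (z' : U) = 0 from z'.2.2]
    ring
  let B := g.restrict Z
  have hB : B.IsAlt := fun z => by
    show g z z = 0
    rw [he, hs, show g e z = 0 from z.2.1, mul_zero]
  have hBn : ∀ x, (∀ y, B x y = 0) → x = 0 := fun x hx => Subtype.ext (hn _ fun v => by
    obtain ⟨⟨a, b, z⟩, rfl⟩ := P.surjective v
    have hx' : (x : U) = P (0, 0, x) := by simp [hP]
    rw [hx', hform, show g (x : U) z = 0 from hx z]
    ring)
  obtain ⟨k, hk, hcard⟩ := card_isom_alt B hB hBn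
  refine ⟨k, ?_, ?_⟩
  · rw [← P.finrank_eq, Module.finrank_prod, Module.finrank_prod, Module.finrank_self, hk]; omega
  have hfix : ∀ h : Isom g, h.1 e = e := fun h => fixes_defect_vector g hs hn he h.1 h.2
  -- the parametrising map
  let M : F → Z → Isom B → (U →ₗ[F] U) := fun a w s =>
    P.toLinearMap ∘ₗ
      (((LinearMap.fst F F (F × Z)) + a • (LinearMap.fst F F Z ∘ₗ LinearMap.snd F F (F × Z)) +
          (B.flip w) ∘ₗ s.1.toLinearMap ∘ₗ LinearMap.snd F F Z ∘ₗ LinearMap.snd F F (F × Z)).prod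
        ((LinearMap.fst F F Z ∘ₗ LinearMap.snd F F (F × Z)).prod
          ((LinearMap.fst F F Z ∘ₗ LinearMap.snd F F (F × Z)).smulRight w +
            s.1.toLinearMap ∘ₗ LinearMap.snd F F Z ∘ₗ LinearMap.snd F F (F × Z)))) ∘ₗ P.symm.toLinearMap
  have hM : ∀ a w s α β (z : Z), M a w s (P (α, β, z)) =
      P (α + a * β + g (s.1 z : U) w, β, β • w + s.1 z) := fun a w s α β z => by
    simp only [M, LinearMap.comp_apply, LinearEquiv.coe_coe, LinearEquiv.symm_apply_apply]
    rfl
  have hMg : ∀ a w s u v, g (M a w s u) (M a w s v) = g u v := fun a w s u v => by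
    obtain ⟨⟨α, β, z⟩, rfl⟩ := P.surjective u
    obtain ⟨⟨α', β', z'⟩, rfl⟩ := P.surjective v
    rw [hM, hM, hform, hform]
    simp only [Submodule.coe_add, Submodule.coe_smul, map_add, map_smul, LinearMap.add_apply,
      LinearMap.smul_apply, smul_eq_mul]
    have h1 : g (s.1 z : U) (s.1 z') = g (z : U) z' := s.2 z z'
    have h2 : g (w : U) w = 0 := hB w
    rw [hs (w : U) (s.1 z'), h1, h2]
    linear_combination (a * β * β' + g (s.1 z : U) w * β' + g (s.1 z' : U) w * β) * CharTwo.two_eq_zero (R := F)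
  let Ψ : F × Z × Isom B → Isom g := fun x =>
    ⟨LinearEquiv.ofInjectiveEndo (M x.1 x.2.1 x.2.2) ((injective_iff_map_eq_zero _).2 fun u hu =>
      hn u fun v => by rw [← hMg x.1 x.2.1 x.2.2, hu, map_zero, LinearMap.zero_apply]), hMg _ _ _⟩
  have hΨ : ∀ x u, (Ψ x).1 u = M x.1 x.2.1 x.2.2 u := fun x u => rfl
  have hbij : Function.Bijective Ψ := by
    constructor
    · rintro ⟨a, w, s⟩ ⟨a', w', s'⟩ hxx
      have key : ∀ u, M a w s u = M a' w' s' u := fun u => by
        rw [← hΨ ⟨a, w, s⟩, hxx]; rfl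
      have h1 := key (P (0, 1, 0))
      rw [hM, hM] at h1
      have h1' := P.injective h1
      simp only [map_zero, Submodule.coe_zero, LinearMap.zero_apply, mul_one, zero_add, add_zero, one_smul,
        Prod.mk.injEq, true_and] at h1'
      obtain ⟨rfl, rfl⟩ := h1'
      refine Prod.ext rfl (Prod.ext rfl (Subtype.ext (LinearEquiv.ext fun z => ?_)))
      have h2 := key (P (0, 0, z))
      rw [hM, hM] at h2
      have h2' := P.injective h2
      simp only [zero_smul, zero_add, Prod.mk.injEq] at h2'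
      exact h2'.2.2
    · intro h
      have he0 : ∀ u, g e (h.1 u) = g e u := fun u => by
        conv_lhs => rw [← hfix h]
        rw [h.2]
      let s₀ : Z →ₗ[F] Z := π ∘ₗ h.1.toLinearMap ∘ₗ Z.subtype
      have hdec : ∀ z : Z, h.1 z = P (ca (h.1 z), 0, s₀ z) := fun z => by
        conv_lhs => rw [← P.apply_symm_apply (h.1 z)]
        congr 1
        refine Prod.ext rfl (Prod.ext ?_ rfl)
        show g e (h.1 z) = 0
        rw [he0]; exact z.2.1
      have hs₀ : ∀ z z', g (s₀ z : U) (s₀ z') = g (z : U) z' := fun z z' => by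
        rw [← h.2 z z', hdec z, hdec z', hform]
        ring
      let s : Isom B := ⟨LinearEquiv.ofInjectiveEndo s₀ ((injective_iff_map_eq_zero _).2 fun z hz =>
        hBn z fun z' => by
          show g (z : U) z' = 0
          rw [← hs₀, hz]; simp), hs₀⟩
      have hhf : h.1 f = P (ca (h.1 f), 1, π (h.1 f)) := by
        conv_lhs => rw [← P.apply_symm_apply (h.1 f)]
        congr 1
        refine Prod.ext rfl (Prod.ext ?_ rfl)
        show g e (h.1 f) = 1
        rw [he0, hf]
      refine ⟨⟨ca (h.1 f), π (h.1 f), s⟩, Subtype.ext (LinearEquiv.ext fun u => ?_)⟩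
      obtain ⟨⟨α, β, z⟩, rfl⟩ := P.surjective u
      rw [hΨ, hM]
      have hca : ca (h.1 z) = g (s₀ z : U) (π (h.1 f) : U) := by
        have h3 := h.2 (z : U) f
        rw [hdec z, hhf, hform, hs (z : U) f, show g f (z : U) = 0 from z.2.2] at h3
        linear_combination h3 - g (s₀ z : U) (π (h.1 f) : U) * CharTwo.two_eq_zero (R := F)
      have hu : h.1 (P (α, β, z)) = α • e + (β • h.1 f + h.1 z) := by
        rw [hP, map_add, map_add, map_smul, map_smul, hfix]
      have hsz : s.1 z = s₀ z := rfl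
      rw [hu, hdec z, hca, hsz]
      generalize h.1 f = y at hhf ⊢
      generalize ca y = a₀, π y = w₀ at hhf ⊢
      subst hhf
      simp only [hP, Submodule.coe_add, Submodule.coe_smul, smul_add, smul_smul]
      module
  rw [← Nat.card_eq_of_bijective Ψ hbij, Nat.card_prod, Nat.card_prod, hcard,
    Module.natCard_eq_pow_finrank (K := F) (V := Z), hk, Nat.card_eq_fintype_card (α := F)]
  ring

/-- The three cases together. -/
theorem card_isom_symm (g : LinearMap.BilinForm F U) (hs : ∀ x y, g x y = g y x)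
    (hn : ∀ x, (∀ y, g x y = 0) → x = 0) :
    ((∀ x, g x x = 0) ∧ ∃ k, finrank F U = 2 * k ∧ Nat.card (Isom g) = spOrd F k) ∨
      ((¬ ∀ x, g x x = 0) ∧
        ((∃ k, finrank F U = 2 * k + 1 ∧ Nat.card (Isom g) = spOrd F k) ∨
          ∃ k, finrank F U = 2 * k + 2 ∧ Nat.card (Isom g) = Fintype.card F ^ (2 * k + 1) * spOrd F k)) := by
  by_cases h : ∀ x, g x x = 0
  · exact Or.inl ⟨h, card_isom_alt g h hn⟩
  refine Or.inr ⟨h, ?_⟩
  obtain ⟨e, he⟩ := exists_defect_vector g hs hn
  rcases eq_or_ne (g e e) 0 with h0 | h0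
  · exact Or.inr (card_isom_even g hs hn e he h0 fun h1 => h fun x => by rw [he, h1, map_zero, mul_zero])
  · refine Or.inl (card_isom_odd g hs hn e he ?_)
    have := he e
    exact mul_left_cancel₀ h0 (this.symm.trans (mul_one _).symm)

end CfsgLib.SpInvolCent
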