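import Cfsg.Agent.Lib.SpInvolCent.IsomCard

/-!
Centralisers of involutions in symplectic groups in characteristic two.
-/

set_option autoImplicit false

namespace CfsgLib.SpInvolCent

open Module Matrix CfsgLib.SympGeom Cfsg

variable {F : Type*} [Field F] [Fintype F] [CharP F 2] {m : ℕ}

/-- The centraliser order, with the invariant symmetric form described by its type. -/
theorem card_centralizer (t : symplecticGroup (Fin m) F) (ht : t ^ 2 = 1) (s : ℕ)
    (hs : ((t : Matrix (Fin m ⊕ Fin m) (Fin m ⊕ Fin m) F) - 1).rank = s) :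
    s ≤ m ∧ ∃ c : ℕ,
      Nat.card ↥(Subgroup.centralizer ({t} : Set ↥(symplecticGroup (Fin m) F))) =
        Fintype.card F ^ (s * (s + 1) / 2 + 2 * s * (m - s)) * spOrd F (m - s) * c ∧
      (((∀ v, sympForm m F v (t.1 *ᵥ v) = 0) ∧ ∃ k, s = 2 * k ∧ c = spOrd F k) ∨
        ((¬ ∀ v, sympForm m F v (t.1 *ᵥ v) = 0) ∧
          ((∃ k, s = 2 * k + 1 ∧ c = spOrd F k) ∨
            ∃ k, s = 2 * k + 2 ∧ c = Fintype.card F ^ (2 * k + 1) * spOrd F k))) := by
  classical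
  let B := sympBilin m F
  have hBsym : ∀ x y, B x y = B y x := fun x y => by
    rw [← LinearMap.IsAlt.neg (B := B) sympBilin_alt x y, CharTwo.neg_eq]
  let N : (Fin m ⊕ Fin m → F) →ₗ[F] (Fin m ⊕ Fin m → F) := Matrix.toLin' (t.1 - 1)
  have hN : ∀ x, N x = t.1 *ᵥ x - x := fun x => by simp [N, Matrix.sub_mulVec]
  have htt : ∀ x, t.1 *ᵥ (t.1 *ᵥ x) = x := fun x => by
    rw [Matrix.mulVec_mulVec, ← Submonoid.coe_mul, ← pow_two, ht, Submonoid.coe_one, Matrix.one_mulVec]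
  have hNN : ∀ x, N (N x) = 0 := fun x => by
    rw [hN, hN, Matrix.mulVec_sub, htt]
    ext i
    simp only [Pi.sub_apply, Pi.zero_apply]
    linear_combination (x i - (t.1 *ᵥ x) i) * CharTwo.two_eq_zero (R := F)
  have hadj : ∀ x y, B (N x) y = B x (N y) := fun x y => by
    rw [hN, hN, map_sub B, LinearMap.sub_apply, map_sub]
    congr 1
    show sympForm m F (t.1 *ᵥ x) y = sympForm m F x (t.1 *ᵥ y)
    conv_lhs => rw [← htt y]
    rw [CfsgLib.Linear.Symp.form_mulVec t.2]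
  let W := LinearMap.range N
  have hWs : finrank F W = s := hs
  have hker : ∀ k, N k = 0 → ∀ w : W, B k w = 0 := by
    rintro k hk ⟨_, y, rfl⟩
    show B k (N y) = 0
    rw [← hadj, hk, map_zero, LinearMap.zero_apply]
  have hsm : s ≤ m := by
    have h1 := LinearMap.finrank_range_add_finrank_ker N
    have h2 : LinearMap.range N ≤ LinearMap.ker N := by rintro _ ⟨x, rfl⟩; exact hNN x
    have h3 := Submodule.finrank_mono h2
    rw [finrank_space] at h1
    have h4 : finrank F (LinearMap.range N) = s := hs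
    omega
  obtain ⟨σ, hσ⟩ := N.rangeRestrict.exists_rightInverse_of_surjective (LinearMap.range_rangeRestrict N)
  have hσ' : ∀ w : W, N (σ w) = w := fun w => congrArg Subtype.val (LinearMap.congr_fun hσ w :)
  let g : LinearMap.BilinForm F W := B.compl₁₂ σ W.subtype
  have hg : ∀ w w', g w w' = B (σ w) w' := fun w w' => rfl
  have hgN : ∀ x (w : W), g ⟨N x, x, rfl⟩ w = B x w := fun x w => by
    have := hker (σ ⟨N x, x, rfl⟩ - x) (by rw [map_sub, hσ', sub_self]) w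
    rw [map_sub, LinearMap.sub_apply, sub_eq_zero] at this
    exact this
  have hgs : ∀ x y, g x y = g y x := fun x y => by
    rw [hg, hg]
    conv_lhs => rw [← hσ' y]
    rw [← hadj, hσ', hBsym]
  have hgn : ∀ x, (∀ y, g x y = 0) → x = 0 := fun x hx => Subtype.ext (by
    rw [← hσ' x]
    refine sympBilin_nondeg.1 _ fun y => ?_
    rw [hadj]
    exact hx ⟨N y, y, rfl⟩)
  have halt : (∀ x, g x x = 0) ↔ ∀ v, sympForm m F v (t.1 *ᵥ v) = 0 := by
    have key : ∀ v, sympForm m F v (t.1 *ᵥ v) = g ⟨N v, v, rfl⟩ ⟨N v, v, rfl⟩ := fun v => by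
      rw [hgN]
      show B v (t.1 *ᵥ v) = B v (N v)
      rw [hN, map_sub, sympBilin_alt v, sub_zero]
    refine ⟨fun h v => by rw [key, h], ?_⟩
    rintro h ⟨_, v, rfl⟩
    rw [← key, h]
  let b := Module.finBasisOfFinrankEq F W hWs
  let tb : IsoTuple m F s := ⟨fun i => (b i : Fin m ⊕ Fin m → F),
    b.linearIndependent.map' W.subtype (Submodule.ker_subtype W), fun i j => by
      obtain ⟨x, hx⟩ := (b i).2
      show B (b i : Fin m ⊕ Fin m → F) (b j) = 0
      exact hker _ (by rw [← hx, hNN]) _⟩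
  -- an isometry that acts as `h` on `W` commutes with `t`
  have hcomm : ∀ (A : symplecticGroup (Fin m) F) (h : Isom g), (∀ w : W, A.1 *ᵥ (w : Fin m ⊕ Fin m → F) = h.1 w) →
      A ∈ Subgroup.centralizer ({t} : Set ↥(symplecticGroup (Fin m) F)) := by
    intro A h hA
    rw [Subgroup.mem_centralizer_singleton_iff]
    refine Subtype.ext (Matrix.toLin'.injective (LinearMap.ext fun x => ?_))
    simp only [Submonoid.coe_mul, Matrix.toLin'_apply, ← Matrix.mulVec_mulVec]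
    have h1 : h.1 ⟨N x, x, rfl⟩ = (⟨N (A.1 *ᵥ x), _, rfl⟩ : W) := by
      refine sub_eq_zero.1 (hgn _ fun w => ?_)
      obtain ⟨w, rfl⟩ := h.1.surjective w
      rw [map_sub, LinearMap.sub_apply, h.2, hgN, hgN, ← hA]
      show B x (w : Fin m ⊕ Fin m → F) - sympForm m F (A.1 *ᵥ x) (A.1 *ᵥ (w : Fin m ⊕ Fin m → F)) = 0
      rw [CfsgLib.Linear.Symp.form_mulVec A.2]
      exact sub_self _
    have h2 : A.1 *ᵥ N x = N (A.1 *ᵥ x) := (hA ⟨N x, x, rfl⟩).trans (congrArg Subtype.val h1)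
    rw [hN, hN, Matrix.mulVec_sub] at h2
    have := sub_left_inj.1 h2
    exact this
  have hfix : tupleFixer tb.1 ≤ Subgroup.centralizer ({t} : Set ↥(symplecticGroup (Fin m) F)) := fun A hA => by
    refine hcomm A ⟨LinearEquiv.refl F W, fun x y => rfl⟩ fun w => ?_
    show A.1 *ᵥ (w : Fin m ⊕ Fin m → F) = w
    have : (Matrix.toLin' A.1).comp W.subtype = W.subtype :=
      b.ext fun i => by simpa using mem_tupleFixer.1 hA i
    exact LinearMap.congr_fun this w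
  refine ⟨hsm, Nat.card (Isom g), ?_, ?_⟩
  · rw [card_of_fixer_le tb.1 _ hfix, card_tupleFixer hsm tb, mul_comm, ← spOrd]
    congr 1
    have hact : ∀ (A : symplecticGroup (Fin m) F) i, (A • tb.1) i = A.1 *ᵥ tb.1 i := fun A i => rfl
    let Φ : Isom g → MulAction.orbit ↥(Subgroup.centralizer ({t} : Set ↥(symplecticGroup (Fin m) F))) tb.1 :=
      fun h => ⟨fun i => (h.1 (b i) : Fin m ⊕ Fin m → F), by
        let u : IsoTuple m F s := ⟨fun i => (h.1 (b i) : Fin m ⊕ Fin m → F),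
          (b.map h.1).linearIndependent.map' W.subtype (Submodule.ker_subtype W), fun i j => by
            obtain ⟨x, hx⟩ := (h.1 (b i)).2
            show B (h.1 (b i) : Fin m ⊕ Fin m → F) (h.1 (b j)) = 0
            exact hker _ (by rw [← hx, hNN]) _⟩
        obtain ⟨A, hA⟩ := exists_map_isoTuple tb u
        have hAW : ∀ w : W, A.1 *ᵥ (w : Fin m ⊕ Fin m → F) = h.1 w := fun w => by
          have : (Matrix.toLin' A.1).comp W.subtype = W.subtype.comp h.1.toLinearMap :=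
            b.ext fun i => by simpa using hA i
          exact LinearMap.congr_fun this w
        exact ⟨⟨A, hcomm A h hAW⟩, funext fun i => (hact A i).trans (hA i)⟩⟩
    refine (Nat.card_congr (Equiv.ofBijective Φ ⟨fun h h' hhh => ?_, ?_⟩)).symm
    · refine Subtype.ext (LinearEquiv.toLinearMap_injective (b.ext fun i => Subtype.ext ?_))
      exact congrFun (congrArg Subtype.val hhh) i
    · rintro ⟨_, ⟨A, hA⟩, rfl⟩
      have hAt : ∀ x, A.1 *ᵥ (t.1 *ᵥ x) = t.1 *ᵥ (A.1 *ᵥ x) := fun x => by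
        rw [Matrix.mulVec_mulVec, Matrix.mulVec_mulVec, ← Submonoid.coe_mul, ← Submonoid.coe_mul,
          Subgroup.mem_centralizer_singleton_iff.1 hA]
      have hAN : ∀ x, A.1 *ᵥ N x = N (A.1 *ᵥ x) := fun x => by rw [hN, hN, Matrix.mulVec_sub, hAt]
      let h₀ : W →ₗ[F] W := ((Matrix.toLin' A.1).comp W.subtype).codRestrict W (by
        rintro ⟨_, x, rfl⟩
        exact ⟨A.1 *ᵥ x, (hAN x).symm⟩)
      have hh₀ : ∀ w, (h₀ w : Fin m ⊕ Fin m → F) = A.1 *ᵥ (w : Fin m ⊕ Fin m → F) := fun w => rfl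
      have hiso : ∀ x y, g (h₀ x) (h₀ y) = g x y := by
        rintro ⟨_, x, rfl⟩ y
        have : h₀ ⟨N x, x, rfl⟩ = (⟨N (A.1 *ᵥ x), _, rfl⟩ : W) := Subtype.ext (hAN x)
        rw [this, hgN, hgN, hh₀]
        exact CfsgLib.Linear.Symp.form_mulVec A.2 _ _
      refine ⟨⟨LinearEquiv.ofInjectiveEndo h₀ ((injective_iff_map_eq_zero _).2 fun x hx =>
        hgn x fun y => by rw [← hiso, hx, map_zero, LinearMap.zero_apply]), hiso⟩, Subtype.ext ?_⟩
      exact funext fun i => rfl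
  · rcases card_isom_symm g hgs hgn with ⟨h, k, hk, hc⟩ | ⟨h, hk⟩
    · exact Or.inl ⟨halt.1 h, k, hWs ▸ hk, hc⟩
    · refine Or.inr ⟨fun h' => h (halt.2 h'), ?_⟩
      rcases hk with ⟨k, hk, hc⟩ | ⟨k, hk, hc⟩
      · exact Or.inl ⟨k, hWs ▸ hk, hc⟩
      · exact Or.inr ⟨k, hWs ▸ hk, hc⟩

theorem exp_odd (m k : ℕ) (h : 2 * k + 1 ≤ m) :
    (2 * k + 1) * (2 * k + 1 + 1) / 2 + 2 * (2 * k + 1) * (m - (2 * k + 1)) =
      2 * m * (2 * k + 1) - (3 * (2 * k + 1) ^ 2 - (2 * k + 1)) / 2 := by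
  obtain ⟨l, rfl⟩ := Nat.exists_eq_add_of_le h
  rw [Nat.add_sub_cancel_left, show (2 * k + 1) * (2 * k + 1 + 1) = 2 * ((2 * k + 1) * (k + 1)) by ring,
    show 3 * (2 * k + 1) ^ 2 - (2 * k + 1) = 2 * ((2 * k + 1) * (3 * k + 1)) from
      Nat.sub_eq_of_eq_add (by ring),
    Nat.mul_div_cancel_left _ two_pos, Nat.mul_div_cancel_left _ two_pos]
  exact (Nat.sub_eq_of_eq_add (by ring)).symm

theorem exp_alt (m k : ℕ) (h : 2 * k ≤ m) :
    2 * k * (2 * k + 1) / 2 + 2 * (2 * k) * (m - 2 * k) =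
      2 * m * (2 * k) - (3 * (2 * k) ^ 2 - 2 * k) / 2 := by
  obtain ⟨l, rfl⟩ := Nat.exists_eq_add_of_le h
  have h1 : 3 * (2 * k) ^ 2 - 2 * k = 2 * (6 * k ^ 2 - k) := by
    rw [Nat.mul_sub]; congr 1; ring
  have hk : k ≤ k ^ 2 := Nat.le_self_pow (by norm_num) k
  rw [Nat.add_sub_cancel_left, show 2 * k * (2 * k + 1) = 2 * (k * (2 * k + 1)) by ring, h1,
    Nat.mul_div_cancel_left _ two_pos, Nat.mul_div_cancel_left _ two_pos]
  zify [show k ≤ 6 * k ^ 2 by omega,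
    show 6 * k ^ 2 - k ≤ 2 * (2 * k + l) * (2 * k) from le_trans (Nat.sub_le _ _) (by nlinarith)]
  ring

theorem exp_even (m k : ℕ) (h : 2 * k + 2 ≤ m) :
    (2 * k + 2) * (2 * k + 2 + 1) / 2 + 2 * (2 * k + 2) * (m - (2 * k + 2)) + (2 * k + 1) =
      2 * m * (2 * k + 2) - (3 * (2 * k + 2) ^ 2 - 3 * (2 * k + 2)) / 2 - 1 := by
  obtain ⟨l, rfl⟩ := Nat.exists_eq_add_of_le h
  rw [Nat.add_sub_cancel_left, show (2 * k + 2) * (2 * k + 2 + 1) = 2 * ((k + 1) * (2 * k + 3)) by ring,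
    show 3 * (2 * k + 2) ^ 2 - 3 * (2 * k + 2) = 2 * (3 * (k + 1) * (2 * k + 1)) from
      Nat.sub_eq_of_eq_add (by ring),
    Nat.mul_div_cancel_left _ two_pos, Nat.mul_div_cancel_left _ two_pos, Nat.sub_sub]
  exact (Nat.sub_eq_of_eq_add (by ring)).symm

end CfsgLib.SpInvolCent
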