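import Cfsg.Agent.Lib.SpInvolCent.QuadOrbit
import Cfsg.Agent.Lib.InvolCount.Omega

/-!
Centralisers of involutions in `Omega` of a hyperbolic form in characteristic two.
-/

set_option autoImplicit false

namespace CfsgLib.SpInvolCent

open Module Matrix CfsgLib.SympGeom CfsgLib.CharTwoInv Cfsg

variable {F : Type*} [Field F] [Fintype F] [CharP F 2] {m : ℕ}

variable (x : ↥(Cfsg.isometryGroup F ⇑(plusQ m F)))

/-- An isometry of the hyperbolic form as a symplectic map. -/
def toSp : symplecticGroup (Fin m) F :=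
  ⟨(x.1 : Matrix (Fin m ⊕ Fin m) (Fin m ⊕ Fin m) F), CfsgLib.Linear.Symp.mem_of_form_mulVec fun u v => by
    have hg : ∀ w, plusQ m F ((x.1 : Matrix (Fin m ⊕ Fin m) (Fin m ⊕ Fin m) F) *ᵥ w) = plusQ m F w :=
      (CfsgLib.CharTwoInv.mem_iso_iff _).1 x.2
    simp only [plusQ_coe] at hg
    rw [CfsgLib.InvolCount.sympForm_eq_polar, CfsgLib.InvolCount.sympForm_eq_polar,
      QuadraticMap.polar, QuadraticMap.polar, ← Matrix.mulVec_add, hg, hg, hg]⟩

theorem toSp_qStab (v : Fin m ⊕ Fin m → F) : plusQ m F ((toSp x).1 *ᵥ v) = plusQ m F v :=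
  (CfsgLib.CharTwoInv.mem_iso_iff _).1 x.2 v

theorem toSp_mul (y : ↥(Cfsg.isometryGroup F ⇑(plusQ m F))) : toSp (x * y) = toSp x * toSp y := rfl

theorem toSp_injective : Function.Injective (toSp : ↥(Cfsg.isometryGroup F ⇑(plusQ m F)) → _) :=
  fun _ _ h => Subtype.ext (Units.ext (congrArg Subtype.val h :))

theorem exists_toSp_eq (g : symplecticGroup (Fin m) F) (hg : g ∈ qStab F m) : ∃ y, toSp y = g :=
  ⟨⟨CfsgLib.RootCount.spHom m F g, (CfsgLib.CharTwoInv.mem_iso_iff _).2 hg⟩, Subtype.ext rfl⟩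

variable (hx : x * x = 1) {s : ℕ}
  (hs : ((x.1 : Matrix (Fin m ⊕ Fin m) (Fin m ⊕ Fin m) F) - 1).rank = s)

include hx

/-- The centraliser in the symplectic group splits over the invariant forms in the orbit. -/
theorem card_centralizer_sp (hm : 1 ≤ m) :
    Nat.card ↥(Subgroup.centralizer ({toSp x} : Set ↥(symplecticGroup (Fin m) F))) =
      Nat.card ↥(Subgroup.centralizer ({x} : Set ↥(Cfsg.isometryGroup F ⇑(plusQ m F)))) *
        Nat.card {u : Fin m ⊕ Fin m → F //
          (toSp x).1 *ᵥ u = u ∧ ∃ a : F, plusQ m F u = a * a + a} := by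
  have hxsp : toSp x * toSp x = 1 := by rw [← toSp_mul, hx]; exact Subtype.ext rfl
  have hxx : ∀ v, (toSp x).1 *ᵥ ((toSp x).1 *ᵥ v) = v := fun v => by
    rw [Matrix.mulVec_mulVec, ← Submonoid.coe_mul, hxsp, Submonoid.coe_one, Matrix.one_mulVec]
  have hsymm : ∀ u v, sympForm m F u ((toSp x).1 *ᵥ v) = sympForm m F ((toSp x).1 *ᵥ u) v := fun u v => by
    conv_rhs => rw [← hxx v]
    rw [CfsgLib.Linear.Symp.form_mulVec (toSp x).2]
  rw [card_eq_stab_mul_params (Subgroup.centralizer ({toSp x} : Set ↥(symplecticGroup (Fin m) F)))]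
  congr 1
  · let Φ : ↥(Subgroup.centralizer ({x} : Set ↥(Cfsg.isometryGroup F ⇑(plusQ m F)))) →
        ↥(Subgroup.centralizer ({toSp x} : Set ↥(symplecticGroup (Fin m) F)) ⊓ qStab F m) := fun y =>
      ⟨toSp y.1, Subgroup.mem_centralizer_singleton_iff.2
        (congrArg toSp (Subgroup.mem_centralizer_singleton_iff.1 y.2) :), fun v => toSp_qStab y.1 v⟩
    refine (Nat.card_congr (Equiv.ofBijective Φ
      ⟨fun y y' h => Subtype.ext (toSp_injective (congrArg Subtype.val h :)), ?_⟩)).symm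
    · rintro ⟨g, hgc, hgq⟩
      obtain ⟨y, rfl⟩ := exists_toSp_eq g hgq
      refine ⟨⟨y, ?_⟩, Subtype.ext rfl⟩
      rw [Subgroup.mem_centralizer_singleton_iff]
      apply toSp_injective
      rw [toSp_mul, toSp_mul]
      exact Subgroup.mem_centralizer_singleton_iff.1 hgc
  · refine Nat.card_congr (Equiv.setCongr (Set.ext fun u => ?_))
    constructor
    · rintro ⟨g, hg, rfl⟩
      refine ⟨?_, (range_param hm).subset ⟨g, rfl⟩⟩
      refine sub_eq_zero.1 (sympBilin_nondeg.1 _ fun v => ?_)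
      rw [map_sub, LinearMap.sub_apply, sympBilin_apply, sympBilin_apply, ← hsymm]
      have h1 := param_spec g ((toSp x).1 *ᵥ v)
      rw [Matrix.mulVec_mulVec, ← Submonoid.coe_mul, Subgroup.mem_centralizer_singleton_iff.1 hg,
        Submonoid.coe_mul, ← Matrix.mulVec_mulVec, toSp_qStab, toSp_qStab, param_spec] at h1
      have h2 : (sympForm m F (param g) ((toSp x).1 *ᵥ v) - sympForm m F (param g) v) *
          (sympForm m F (param g) ((toSp x).1 *ᵥ v) - sympForm m F (param g) v) = 0 := by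
        linear_combination -h1 + (sympForm m F (param g) v * sympForm m F (param g) v -
          sympForm m F (param g) ((toSp x).1 *ᵥ v) * sympForm m F (param g) v) * CharTwo.two_eq_zero (R := F)
      exact mul_self_eq_zero.1 h2
    · rintro ⟨hfix, hgood⟩
      obtain ⟨g, rfl⟩ : u ∈ Set.range (param (F := F) (m := m)) := by rw [range_param hm]; exact hgood
      have hb : g * toSp x * g⁻¹ ∈ qStab F m := fun v => by
        rw [Submonoid.coe_mul, Submonoid.coe_mul, ← Matrix.mulVec_mulVec, ← Matrix.mulVec_mulVec, param_spec,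
          toSp_qStab, hsymm, hfix, ← param_spec, Matrix.mulVec_mulVec, ← Submonoid.coe_mul, mul_inv_cancel,
          Submonoid.coe_one, Matrix.one_mulVec]
      obtain ⟨b, hb'⟩ := exists_toSp_eq _ hb
      have hbb : b * b = 1 := toSp_injective (by
        rw [toSp_mul, hb']
        calc g * toSp x * g⁻¹ * (g * toSp x * g⁻¹) = g * (toSp x * toSp x) * g⁻¹ := by group
          _ = _ := by rw [hxsp, mul_one, mul_inv_cancel]; exact Subtype.ext rfl)
      have hQ : (plusQ m F).polarBilin.Nondegenerate := plusQ_nondeg m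
      let G : GL (Fin m ⊕ Fin m) F := CfsgLib.RootCount.spHom m F g
      have hbG : (b.1 : GL (Fin m ⊕ Fin m) F) = G * x.1 * G⁻¹ := by
        rw [← map_inv]
        refine Units.ext ?_
        exact congrArg Subtype.val hb'
      have hbv : ∀ v, (b.1 : Matrix (Fin m ⊕ Fin m) (Fin m ⊕ Fin m) F) *ᵥ v = g.1 *ᵥ ((toSp x).1 *ᵥ ((g⁻¹).1 *ᵥ v)) := fun v => by
        rw [show (b.1 : Matrix (Fin m ⊕ Fin m) (Fin m ⊕ Fin m) F) = (toSp b).1 from rfl, hb', Submonoid.coe_mul,
          Submonoid.coe_mul, ← Matrix.mulVec_mulVec, ← Matrix.mulVec_mulVec]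
      have hpolar : ∀ u v, (plusQ m F).polarBilin u v = sympForm m F u v := fun u v => by
        rw [QuadraticMap.polarBilin_apply_apply, plusQ_coe, CfsgLib.InvolCount.sympForm_eq_polar]
      have hrk : CfsgLib.InvolCount.invRk (CfsgLib.InvolCount.isoMat ⇑(plusQ m F)) b =
          CfsgLib.InvolCount.invRk (CfsgLib.InvolCount.isoMat ⇑(plusQ m F)) x := by
        rw [CfsgLib.InvolCount.invRk_eq, CfsgLib.InvolCount.invRk_eq]
        show ((b.1 : Matrix (Fin m ⊕ Fin m) (Fin m ⊕ Fin m) F) - 1).rank =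
          ((x.1 : Matrix (Fin m ⊕ Fin m) (Fin m ⊕ Fin m) F) - 1).rank
        rw [hbG, Units.val_mul, Units.val_mul]
        have e : (G : Matrix (Fin m ⊕ Fin m) (Fin m ⊕ Fin m) F) * x.1 * (↑G⁻¹ : Matrix (Fin m ⊕ Fin m) (Fin m ⊕ Fin m) F) - 1 =
            G * ((x.1 : Matrix (Fin m ⊕ Fin m) (Fin m ⊕ Fin m) F) - 1) * (↑G⁻¹ : Matrix (Fin m ⊕ Fin m) (Fin m ⊕ Fin m) F) := by
          rw [mul_sub, sub_mul, mul_one, Units.mul_inv]
        rw [e, Matrix.rank_mul_eq_left_of_isUnit_det _ _ ((Matrix.isUnit_iff_isUnit_det _).1 (G⁻¹).isUnit),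
          Matrix.rank_mul_eq_right_of_isUnit_det _ _ ((Matrix.isUnit_iff_isUnit_det _).1 G.isUnit)]
      have halt : CfsgLib.InvolCount.InvAlt (CfsgLib.InvolCount.isoMat ⇑(plusQ m F)) (plusQ m F).polarBilin b ↔
          CfsgLib.InvolCount.InvAlt (CfsgLib.InvolCount.isoMat ⇑(plusQ m F)) (plusQ m F).polarBilin x := by
        simp only [CfsgLib.InvolCount.InvAlt, hpolar]
        show (∀ v, sympForm m F v ((b.1 : Matrix (Fin m ⊕ Fin m) (Fin m ⊕ Fin m) F) *ᵥ v) = 0) ↔
          ∀ v, sympForm m F v ((toSp x).1 *ᵥ v) = 0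
        constructor
        · intro h v
          have h' := h (g.1 *ᵥ v)
          rw [hbv, CfsgLib.Linear.Symp.form_mulVec g.2, Matrix.mulVec_mulVec v, ← Submonoid.coe_mul, inv_mul_cancel,
            Submonoid.coe_one, Matrix.one_mulVec] at h'
          exact h'
        · intro h v
          rw [hbv]
          conv_lhs => arg 3; rw [show v = g.1 *ᵥ ((g⁻¹).1 *ᵥ v) by
            rw [Matrix.mulVec_mulVec, ← Submonoid.coe_mul, mul_inv_cancel, Submonoid.coe_one, Matrix.one_mulVec]]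
          rw [CfsgLib.Linear.Symp.form_mulVec g.2]
          exact h _
      obtain ⟨h, hh⟩ := isConj_iff.1 (CfsgLib.InvolCount.isConj_of_invariants (plusQ m F) hQ b x hbb hx hrk halt)
      refine ⟨toSp h * g, ?_, ((param_eq_iff g (toSp h * g)).2 ?_).symm⟩
      · rw [SetLike.mem_coe, Subgroup.mem_centralizer_singleton_iff]
        have : toSp h * (g * toSp x * g⁻¹) = toSp x * toSp h := by
          rw [← hb', ← toSp_mul, ← toSp_mul, mul_inv_eq_iff_eq_mul.1 hh]
        calc toSp h * g * toSp x = toSp h * (g * toSp x * g⁻¹) * g := by group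
          _ = toSp x * (toSp h * g) := by rw [this, mul_assoc]
      · rw [mul_inv_cancel_right]
        exact fun v => toSp_qStab h v

/-- Centraliser in `Omega` when some odd element centralises. -/
theorem card_centralizer_omega {q : (Fin m ⊕ Fin m → F) → F} (hq : ⇑(plusQ m F) = q)
    (hgen : Subgroup.closure (CfsgLib.Orth.reflSet (plusQ m F)) = ⊤) (hne : ∃ v, plusQ m F v ≠ 0)
    {w : Fin m ⊕ Fin m → F} (hw : (toSp x).1 *ᵥ w = w) (hQw : plusQ m F w ≠ 0) :
    2 * Nat.card {g : ↥(Cfsg.Omega F ⇑(plusQ m F)) // (g : ↥(Cfsg.isometryGroup F ⇑(plusQ m F))) * x = x * g} =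
      Nat.card ↥(Subgroup.centralizer ({x} : Set ↥(Cfsg.isometryGroup F ⇑(plusQ m F)))) := by
  have hQ : (plusQ m F).polarBilin.Nondegenerate := plusQ_nondeg m
  have hnd : CfsgLib.Classical.Quad.NDPolar (plusQ m F) := fun y hy => hQ.1 y hy
  obtain ⟨r, hr, hrx⟩ := CfsgLib.InvolCount.exists_odd_commute hnd hgen x
    (show Matrix.toLinAlgEquiv' (CfsgLib.InvolCount.isoMat ⇑(plusQ m F) x) w = w by
      simp only [Matrix.toLinAlgEquiv'_apply]; exact hw) hQw
  set C := Subgroup.centralizer ({x} : Set ↥(Cfsg.isometryGroup F ⇑(plusQ m F))) with hC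
  have hidx : ((Cfsg.Omega F ⇑(plusQ m F)).subgroupOf C).index = 2 := by
    rw [Subgroup.index_eq_two_iff]
    refine ⟨⟨r, Subgroup.mem_centralizer_singleton_iff.2 hrx⟩, fun b => ?_⟩
    simp only [Subgroup.mem_subgroupOf, Subgroup.coe_mul]
    rw [Subgroup.mul_mem_iff_of_index_two (CfsgLib.InvolCount.omega_index hnd hgen hne)]
    by_cases hb : (b : ↥(Cfsg.isometryGroup F ⇑(plusQ m F))) ∈ Cfsg.Omega F ⇑(plusQ m F) <;>
      simp [hb, hr, Xor']
  rw [← ((Cfsg.Omega F ⇑(plusQ m F)).subgroupOf C).card_mul_index, hidx, mul_comm]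
  congr 1
  exact Nat.card_congr ⟨fun g => ⟨⟨g.1.1, Subgroup.mem_centralizer_singleton_iff.2 g.2⟩, g.1.2⟩,
    fun g => ⟨⟨g.1.1, g.2⟩, Subgroup.mem_centralizer_singleton_iff.1 g.1.2⟩, fun g => rfl, fun g => rfl⟩

omit [Fintype F] in
theorem fixed_iff (u : Fin m ⊕ Fin m → F) :
    (toSp x).1 *ᵥ u = u ↔ u ∈ LinearMap.ker (Matrix.toLin' ((x.1 : Matrix (Fin m ⊕ Fin m) (Fin m ⊕ Fin m) F) - 1)) := by
  rw [LinearMap.mem_ker, Matrix.toLin'_apply, Matrix.sub_mulVec, Matrix.one_mulVec, sub_eq_zero]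
  rfl

include hs

/-- Fixed good parameters when `Q` does not vanish on the moved space. -/
theorem card_fixed_good_nonalt
    (hna : ∃ v, plusQ m F (((x.1 : Matrix (Fin m ⊕ Fin m) (Fin m ⊕ Fin m) F) - 1) *ᵥ v) ≠ 0) :
    (∃ w, (toSp x).1 *ᵥ w = w ∧ plusQ m F w ≠ 0) ∧
    2 * Nat.card {u : Fin m ⊕ Fin m → F // (toSp x).1 *ᵥ u = u ∧ ∃ a : F, plusQ m F u = a * a + a} =
      Fintype.card F ^ (2 * m - s) := by
  obtain ⟨v₀, hv₀⟩ := hna
  set M := (x.1 : Matrix (Fin m ⊕ Fin m) (Fin m ⊕ Fin m) F) with hM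
  have hxsp : toSp x * toSp x = 1 := by rw [← toSp_mul, hx]; exact Subtype.ext rfl
  have hMM : ∀ v, M *ᵥ (M *ᵥ v) = v := fun v => by
    rw [show M = (toSp x).1 from rfl, Matrix.mulVec_mulVec, ← Submonoid.coe_mul, hxsp, Submonoid.coe_one,
      Matrix.one_mulVec]
  set w := (M - 1) *ᵥ v₀ with hw
  have hwM : M *ᵥ w = w := by
    rw [hw, Matrix.sub_mulVec, Matrix.one_mulVec, Matrix.mulVec_sub, hMM]
    ext i
    simp only [Pi.sub_apply]
    linear_combination (v₀ i - (M *ᵥ v₀) i) * CharTwo.two_eq_zero (R := F)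
  refine ⟨⟨w, hwM, hv₀⟩, ?_⟩
  let K := LinearMap.ker (Matrix.toLin' (M - 1))
  have hwK : w ∈ K := (fixed_iff x hx w).1 hwM
  have horth : ∀ u ∈ K, sympForm m F u w = 0 := fun u hu => by
    have hu' : M *ᵥ u = u := (fixed_iff x hx u).2 hu
    rw [hw, Matrix.sub_mulVec, Matrix.one_mulVec, ← sympBilin_apply, map_sub, sympBilin_apply, sympBilin_apply]
    conv_lhs => arg 1; rw [← hu']
    rw [show M = (toSp x).1 from rfl, CfsgLib.Linear.Symp.form_mulVec (toSp x).2, sub_self]
  let Q : K → F := fun u => plusQ m F u.1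
  have hall : ∀ c, Nat.card {u : K // Q u = c} = Nat.card {u : K // Q u = 0} := fun c => by
    obtain ⟨r, hr⟩ := FiniteField.isSquare_of_char_two (ringChar.eq F 2) (c / plusQ m F w)
    have hQ : ∀ u : K, Q (u + r • ⟨w, hwK⟩) = Q u + c := fun u => by
      show plusQ m F ((u : Fin m ⊕ Fin m → F) + r • w) = plusQ m F (u : Fin m ⊕ Fin m → F) + c
      rw [plusQ_add, QuadraticMap.map_smul, ← sympBilin_apply, map_smul, sympBilin_apply, horth _ u.2,
        smul_zero, add_zero, smul_eq_mul, ← hr, div_mul_cancel₀ _ hv₀]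
    refine (Nat.card_congr ((Equiv.addRight (r • (⟨w, hwK⟩ : K))).subtypeEquiv fun u => ?_)).symm
    simp only [Equiv.coe_addRight, hQ]
    rw [add_eq_right]
  have hK : Nat.card K = Fintype.card F ^ (2 * m - s) := by
    have h1 := LinearMap.finrank_range_add_finrank_ker (Matrix.toLin' (M - 1))
    rw [finrank_space] at h1
    have h2 : finrank F (LinearMap.range (Matrix.toLin' (M - 1))) = s := hs
    rw [Module.natCard_eq_pow_finrank (K := F) (V := K), Nat.card_eq_fintype_card]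
    congr 1
    show finrank F (LinearMap.ker (Matrix.toLin' (M - 1))) = _
    omega
  have htot : Fintype.card F * Nat.card {u : K // Q u = 0} = Nat.card K := by
    rw [← Nat.card_congr (Equiv.sigmaFiberEquiv Q), Nat.card_sigma, Finset.sum_congr rfl fun c _ => hall c,
      Finset.sum_const, Finset.card_univ, smul_eq_mul]
  have h := card_good Q rfl (fun c _ => hall c)
  rw [Nat.card_congr ⟨fun u => (⟨⟨u.1, (fixed_iff x hx u.1).1 u.2.1⟩, u.2.2⟩ : {u : K // ∃ a : F, Q u = a * a + a}),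
    fun u => ⟨u.1.1, (fixed_iff x hx u.1.1).2 u.1.2, u.2⟩, fun u => rfl, fun u => rfl⟩, ← hK]
  omega

/-- Fixed good parameters when `Q` vanishes on the moved space. -/
theorem card_fixed_good_alt (hsm : s ≤ m) (hs1 : 1 ≤ s)
    (halt : ∀ v, plusQ m F (((x.1 : Matrix (Fin m ⊕ Fin m) (Fin m ⊕ Fin m) F) - 1) *ᵥ v) = 0) :
    (s < m → ∃ w, (toSp x).1 *ᵥ w = w ∧ plusQ m F w ≠ 0) ∧
    (s < m → 2 * Nat.card {u : Fin m ⊕ Fin m → F // (toSp x).1 *ᵥ u = u ∧ ∃ a : F, plusQ m F u = a * a + a} =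
      Fintype.card F ^ m * (Fintype.card F ^ (m - s) + 1)) ∧
    (s = m → Nat.card {u : Fin m ⊕ Fin m → F // (toSp x).1 *ᵥ u = u ∧ ∃ a : F, plusQ m F u = a * a + a} =
      Fintype.card F ^ m) := by
  classical
  set M := (x.1 : Matrix (Fin m ⊕ Fin m) (Fin m ⊕ Fin m) F) with hM
  have hxsp : toSp x * toSp x = 1 := by rw [← toSp_mul, hx]; exact Subtype.ext rfl
  have hMM : ∀ v, M *ᵥ (M *ᵥ v) = v := fun v => by
    rw [show M = (toSp x).1 from rfl, Matrix.mulVec_mulVec, ← Submonoid.coe_mul, hxsp, Submonoid.coe_one,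
      Matrix.one_mulVec]
  let N := Matrix.toLin' (M - 1)
  let W := LinearMap.range N
  let K := LinearMap.ker N
  have hW : finrank F W = s := hs
  have hKd : finrank F K = 2 * m - s := by
    have h1 := LinearMap.finrank_range_add_finrank_ker N
    rw [finrank_space] at h1
    have h2 : finrank F (LinearMap.range N) = s := hs
    show finrank F (LinearMap.ker N) = _
    omega
  have hadj : ∀ u v, sympForm m F (N u) v = sympForm m F u (N v) := fun u v => by
    simp only [N, Matrix.toLin'_apply, Matrix.sub_mulVec, Matrix.one_mulVec, ← sympBilin_apply, map_sub,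
      LinearMap.sub_apply]
    congr 1
    rw [sympBilin_apply, sympBilin_apply]
    conv_lhs => rw [← hMM v]
    rw [show M = (toSp x).1 from rfl, CfsgLib.Linear.Symp.form_mulVec (toSp x).2]
  -- the distribution of values off the fixed space
  have key : ∀ c, Fintype.card F * Nat.card {u : K // plusQ m F u.1 = c} + Fintype.card F ^ (2 * m) =
      Fintype.card F * Nat.card {v : Fin m ⊕ Fin m → F // plusQ m F v = c} + Fintype.card F ^ (2 * m - s) := by
    intro c
    let X := {v : Fin m ⊕ Fin m → F // v ∉ K}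
    let A := {v : X // plusQ m F v.1 = c}
    have hshift : ∀ (v : Fin m ⊕ Fin m → F) (w : W), v + (w : Fin m ⊕ Fin m → F) ∈ K ↔ v ∈ K := by
      rintro v ⟨_, y, rfl⟩
      refine K.add_mem_iff_left ?_
      show N (N y) = 0
      simp only [N, Matrix.toLin'_apply, Matrix.sub_mulVec, Matrix.one_mulVec, Matrix.mulVec_sub, hMM]
      ext i
      simp only [Pi.sub_apply, Pi.zero_apply]
      linear_combination (y i - (M *ᵥ y) i) * CharTwo.two_eq_zero (R := F)
    have hWc : Nat.card W = Fintype.card F ^ s := by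
      rw [Module.natCard_eq_pow_finrank (K := F) (V := W), hW, Nat.card_eq_fintype_card]
    have hfib : ∀ v : X, Fintype.card F * Nat.card {w : W // plusQ m F (v.1 + (w : Fin m ⊕ Fin m → F)) = c} = Nat.card W := by
      intro v
      let φ : W →+ F := ((sympBilin m F v.1).comp W.subtype).toAddMonoidHom
      have hφ : Function.Surjective φ := by
        intro d
        obtain ⟨y, hy⟩ : ∃ y, sympForm m F v.1 (N y) ≠ 0 := by
          by_contra h
          push Not at h
          exact v.2 (sympBilin_nondeg.1 _ fun y => by rw [sympBilin_apply, hadj]; exact h y)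
        refine ⟨(d / sympForm m F v.1 (N y)) • ⟨N y, y, rfl⟩, ?_⟩
        show sympBilin m F v.1 ((d / sympForm m F v.1 (N y)) • N y) = d
        rw [map_smul, sympBilin_apply, smul_eq_mul, div_mul_cancel₀ _ hy]
      obtain ⟨w₀, hw₀⟩ := hφ (c - plusQ m F v.1)
      have hQW : ∀ w : W, plusQ m F (v.1 + (w : Fin m ⊕ Fin m → F)) = plusQ m F v.1 + φ w := by
        rintro ⟨_, y, rfl⟩
        rw [plusQ_add]
        have h0 : plusQ m F (N y) = 0 := by simp only [N, Matrix.toLin'_apply]; exact halt y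
        simp only [h0, add_zero]
        rfl
      have e : Nat.card {w : W // plusQ m F (v.1 + (w : Fin m ⊕ Fin m → F)) = c} = Nat.card φ.ker :=
        (Nat.card_congr ((Equiv.addRight w₀).subtypeEquiv fun w => by
          simp only [AddMonoidHom.mem_ker, Equiv.coe_addRight, hQW, map_add, hw₀]
          constructor
          · intro h; rw [h]; ring
          · intro h; linear_combination h)).symm
      have hi := φ.ker.card_mul_index
      rw [AddSubgroup.index_ker, AddMonoidHom.range_eq_top.mpr hφ, AddSubgroup.card_top,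
        Nat.card_eq_fintype_card (α := F)] at hi
      rw [e, mul_comm, hi]
    have hpair : Nat.card (Σ v : X, {w : W // plusQ m F (v.1 + (w : Fin m ⊕ Fin m → F)) = c}) = Nat.card (A × W) :=
      Nat.card_congr
        { toFun := fun p => (⟨⟨p.1.1 + (p.2.1 : Fin m ⊕ Fin m → F), fun h => p.1.2 ((hshift _ _).1 h)⟩, p.2.2⟩, p.2.1)
          invFun := fun p => ⟨⟨p.1.1.1 - (p.2 : Fin m ⊕ Fin m → F),
            fun h => p.1.1.2 (by simpa using (hshift _ p.2).2 h)⟩, p.2, by simp only [sub_add_cancel]; exact p.1.2⟩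
          left_inv := fun p => Sigma.subtype_ext (Subtype.ext (add_sub_cancel_right _ _)) rfl
          right_inv := fun p => Prod.ext (Subtype.ext (Subtype.ext (sub_add_cancel _ _))) rfl }
    have hA : Fintype.card F * Nat.card A = Nat.card X := by
      rw [Nat.card_sigma, Nat.card_prod] at hpair
      have h2 := congrArg (Fintype.card F * ·) hpair
      rw [Finset.mul_sum, Finset.sum_congr rfl fun v _ => hfib v, Finset.sum_const, Finset.card_univ,
        smul_eq_mul, ← Nat.card_eq_fintype_card (α := X), ← mul_assoc] at h2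
      exact (Nat.eq_of_mul_eq_mul_right (hWc ▸ pow_pos Fintype.card_pos s) h2).symm
    have hX : Nat.card X + Fintype.card F ^ (2 * m - s) = Fintype.card F ^ (2 * m) := by
      have h1 := Nat.card_congr (Equiv.sumCompl (fun v : Fin m ⊕ Fin m → F => v ∈ K))
      rw [Nat.card_sum, Nat.card_fun, Nat.card_eq_fintype_card (α := F), Nat.card_eq_fintype_card (α := Fin m ⊕ Fin m),
        Fintype.card_sum, Fintype.card_fin, ← two_mul] at h1
      have h2 : Nat.card {v : Fin m ⊕ Fin m → F // v ∈ K} = Fintype.card F ^ (2 * m - s) := by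
        rw [← Nat.card_eq_fintype_card (α := F), ← hKd]
        exact Module.natCard_eq_pow_finrank (K := F) (V := K)
      rw [h2] at h1
      rw [← h1, add_comm]
    have hsplit : Nat.card {v : Fin m ⊕ Fin m → F // plusQ m F v = c} =
        Nat.card {u : K // plusQ m F u.1 = c} + Nat.card A := by
      rw [← Nat.card_congr (Equiv.sumCompl fun v : {v : Fin m ⊕ Fin m → F // plusQ m F v = c} => v.1 ∈ K), Nat.card_sum]
      congr 1
      · exact Nat.card_congr ⟨fun v => ⟨⟨v.1.1, v.2⟩, v.1.2⟩, fun u => ⟨⟨u.1.1, u.2⟩, u.1.2⟩, fun v => rfl, fun u => rfl⟩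
      · exact Nat.card_congr ⟨fun v => ⟨⟨v.1.1, v.2⟩, v.1.2⟩, fun u => ⟨⟨u.1.1, u.2⟩, u.1.2⟩, fun v => rfl, fun u => rfl⟩
    rw [hsplit, ← hX, ← hA, mul_add]
    ring
  obtain ⟨l, rfl⟩ : ∃ l, m = s + l := ⟨m - s, by omega⟩
  set q := Fintype.card F with hq
  have hq1 : 1 < q := Fintype.one_lt_card
  have hN1 : ∀ c : F, c ≠ 0 → q * Nat.card {u : K // plusQ (s + l) F u.1 = c} + q ^ (s + l) = q ^ (s + 2 * l) := by
    intro c hc
    have h := key c
    rw [card_level_plus, if_neg hc, add_zero, ← hq, mul_left_comm q, ← pow_succ', Nat.sub_add_cancel (by omega),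
      show 2 * (s + l) - s = s + 2 * l by omega, two_mul (s + l), pow_add q (s + l) (s + l), Nat.sub_mul, one_mul] at h
    have : q ^ (s + l) ≤ q ^ (s + l) * q ^ (s + l) := Nat.le_mul_self _
    omega
  have hN0 : q * Nat.card {u : K // plusQ (s + l) F u.1 = 0} + q ^ (s + l) = q ^ (s + 2 * l) + q * q ^ (s + l) := by
    have h := key 0
    rw [card_level_plus, if_pos rfl, mul_add q, ← hq, mul_left_comm q, ← pow_succ', Nat.sub_add_cancel (by omega),
      show 2 * (s + l) - s = s + 2 * l by omega, two_mul (s + l), pow_add q (s + l) (s + l), Nat.sub_mul, one_mul] at h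
    have : q ^ (s + l) ≤ q ^ (s + l) * q ^ (s + l) := Nat.le_mul_self _
    omega
  have hfix : Nat.card {u : Fin (s + l) ⊕ Fin (s + l) → F // (toSp x).1 *ᵥ u = u ∧ ∃ a : F, plusQ (s + l) F u = a * a + a} =
      Nat.card {u : K // ∃ a : F, plusQ (s + l) F u.1 = a * a + a} :=
    Nat.card_congr ⟨fun u => ⟨⟨u.1, (fixed_iff x hx u.1).1 u.2.1⟩, u.2.2⟩,
      fun u => ⟨u.1.1, (fixed_iff x hx u.1.1).2 u.1.2, u.2⟩, fun u => rfl, fun u => rfl⟩
  obtain ⟨N₁, hN₁⟩ : ∃ N₁, ∀ c : F, c ≠ 0 → Nat.card {u : K // plusQ (s + l) F u.1 = c} = N₁ :=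
    ⟨Nat.card {u : K // plusQ (s + l) F u.1 = 1}, fun c hc => by
      have h1 := hN1 c hc
      have h2 := hN1 1 one_ne_zero
      exact Nat.eq_of_mul_eq_mul_left (by omega : 0 < q) (by omega)⟩
  have h1 : q * N₁ + q ^ (s + l) = q ^ (s + 2 * l) := by rw [← hN₁ 1 one_ne_zero]; exact hN1 1 one_ne_zero
  have hgood := card_good (fun u : K => plusQ (s + l) F u.1) rfl hN₁
  rw [hfix]
  generalize Nat.card {u : K // ∃ a : F, plusQ (s + l) F u.1 = a * a + a} = G at hgood ⊢
  refine ⟨fun hlt => ?_, fun hlt => ?_, fun heq => ?_⟩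
  · have : 0 < N₁ := by
      rcases Nat.eq_zero_or_pos N₁ with h | h
      · exfalso
        rw [h, mul_zero, zero_add] at h1
        exact absurd (Nat.pow_right_injective (by omega) h1) (by omega)
      · exact h
    rw [← hN₁ 1 one_ne_zero, Nat.card_pos_iff] at this
    obtain ⟨u, hu⟩ := this.1
    exact ⟨u.1, (fixed_iff x hx u.1).2 u.2, by rw [hu]; exact one_ne_zero⟩
  · rw [Nat.add_sub_cancel_left]
    have e : q ^ (s + l) * (q ^ l + 1) = q ^ (s + 2 * l) + q ^ (s + l) := by
      rw [mul_add, mul_one, ← pow_add, add_assoc, ← two_mul]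
    rw [e]
    rw [← hq] at hgood
    refine Nat.eq_of_mul_eq_mul_left (by omega : 0 < q) ?_
    obtain ⟨r, hr⟩ : ∃ r, q = r + 2 := ⟨q - 2, by omega⟩
    rw [hr] at hgood hN0 h1 ⊢
    linear_combination (r + 2) * hgood + 2 * hN0 + r * h1
  · obtain rfl : l = 0 := by omega
    simp only [add_zero, mul_zero] at hN0 h1 hgood ⊢
    obtain rfl : N₁ = 0 := by
      rcases Nat.eq_zero_or_pos N₁ with h | h
      · exact h
      · nlinarith
    simp only [mul_zero, add_zero] at hgood
    refine Nat.eq_of_mul_eq_mul_left (by omega : 0 < q) ?_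
    nlinarith

end CfsgLib.SpInvolCent
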