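import Cfsg.Agent.Lib.SpInvolCent.Orth

/-!
The centraliser orders in `Omega` of the hyperbolic form, assembled.
-/

set_option autoImplicit false

namespace CfsgLib.SpInvolCent

open Module Matrix CfsgLib.SympGeom CfsgLib.CharTwoInv Cfsg

variable {F : Type*} [Field F] [Fintype F] [CharP F 2] {m : ℕ}

omit [Fintype F] [CharP F 2] in
theorem eq_zero_of_rank {ι : Type*} [Fintype ι] [DecidableEq ι] {M : Matrix ι ι F} (h : M.rank = 0) : M = 0 := by
  have h1 : LinearMap.range M.mulVecLin = ⊥ := Submodule.finrank_eq_zero.1 h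
  exact Matrix.toLin'.injective ((LinearMap.range_eq_bot.1 h1).trans (map_zero _).symm)

theorem exp_orth_odd (m k : ℕ) (h : 2 * k + 1 ≤ m) :
    2 * m * (2 * k + 1 - 1) - (3 * (2 * k + 1) ^ 2 - 3 * (2 * k + 1)) / 2 + (2 * m - (2 * k + 1)) =
      (2 * k + 1) * (2 * k + 1 + 1) / 2 + 2 * (2 * k + 1) * (m - (2 * k + 1)) := by
  obtain ⟨l, rfl⟩ := Nat.exists_eq_add_of_le h
  rw [Nat.add_sub_cancel_left, Nat.add_sub_cancel, show (2 * k + 1) * (2 * k + 1 + 1) = 2 * ((2 * k + 1) * (k + 1)) by ring,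
    show 3 * (2 * k + 1) ^ 2 - 3 * (2 * k + 1) = 2 * (3 * k * (2 * k + 1)) from Nat.sub_eq_of_eq_add (by ring),
    Nat.mul_div_cancel_left _ two_pos, Nat.mul_div_cancel_left _ two_pos]
  zify [show 3 * k * (2 * k + 1) ≤ 2 * (2 * k + 1 + l) * (2 * k) by nlinarith,
    show 2 * k + 1 ≤ 2 * (2 * k + 1 + l) by omega]
  ring

theorem exp_orth_alt (m k : ℕ) (h : 2 * k ≤ m) :
    2 * m * (2 * k) - (3 * (2 * k) ^ 2 + 2 * k) / 2 + 2 * k =
      2 * k * (2 * k + 1) / 2 + 2 * (2 * k) * (m - 2 * k) := by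
  obtain ⟨l, rfl⟩ := Nat.exists_eq_add_of_le h
  rw [Nat.add_sub_cancel_left, show 2 * k * (2 * k + 1) = 2 * (k * (2 * k + 1)) by ring,
    show 3 * (2 * k) ^ 2 + 2 * k = 2 * (6 * k ^ 2 + k) by ring,
    Nat.mul_div_cancel_left _ two_pos, Nat.mul_div_cancel_left _ two_pos]
  zify [show 6 * k ^ 2 + k ≤ 2 * (2 * k + l) * (2 * k) by nlinarith]
  ring

theorem exp_orth_even (m k : ℕ) (h : 2 * k + 2 ≤ m) :
    2 * m * (2 * k + 2 - 1) - (3 * (2 * k + 2) ^ 2 - 5 * (2 * k + 2)) / 2 - 1 + (2 * m - (2 * k + 2)) =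
      (2 * k + 2) * (2 * k + 2 + 1) / 2 + 2 * (2 * k + 2) * (m - (2 * k + 2)) + (2 * k + 1) := by
  obtain ⟨l, rfl⟩ := Nat.exists_eq_add_of_le h
  rw [Nat.add_sub_cancel_left, show 2 * k + 2 - 1 = 2 * k + 1 by omega,
    show (2 * k + 2) * (2 * k + 2 + 1) = 2 * ((k + 1) * (2 * k + 3)) by ring,
    show 3 * (2 * k + 2) ^ 2 - 5 * (2 * k + 2) = 2 * ((k + 1) * (6 * k + 1)) from Nat.sub_eq_of_eq_add (by ring),
    Nat.mul_div_cancel_left _ two_pos, Nat.mul_div_cancel_left _ two_pos, Nat.sub_sub]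
  zify [show (k + 1) * (6 * k + 1) + 1 ≤ 2 * (2 * k + 2 + l) * (2 * k + 1) by nlinarith,
    show 2 * k + 2 ≤ 2 * (2 * k + 2 + l) by omega]
  ring

theorem omega_facts (h : Fintype.card F ≠ 2 ∨ m ≠ 2) (hm : 1 ≤ m) :
    Subgroup.closure (CfsgLib.Orth.reflSet (plusQ m F)) = ⊤ ∧ ∃ v, plusQ m F v ≠ 0 := by
  refine ⟨CfsgLib.Orth.closure_refl_of (fun x hx => (plusQ_nondeg m).1 x hx) ?_, ?_⟩
  · rcases h with h | h
    · exact Or.inl (CfsgLib.Orth.exists_ne_zero_ne_one_of_card h)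
    · refine Or.inr (Or.inl ?_)
      rw [Module.finrank_fintype_fun_eq_card, Fintype.card_sum, Fintype.card_fin]
      omega
  · refine ⟨Pi.single (Sum.inl ⟨0, hm⟩) 1 + Pi.single (Sum.inr ⟨0, hm⟩) 1, ?_⟩
    rw [plusQ_coe, Cfsg.quadFormPlus, Finset.sum_eq_single (⟨0, hm⟩ : Fin m)]
    · simp
    · intro i _ hi
      simp [Pi.single_apply, hi]
    · simp

variable (x : ↥(Cfsg.isometryGroup F ⇑(plusQ m F))) (hx : x * x = 1)

include hx in
theorem quad_moved_eq (v : Fin m ⊕ Fin m → F) :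
    plusQ m F (((x.1 : Matrix (Fin m ⊕ Fin m) (Fin m ⊕ Fin m) F) - 1) *ᵥ v) = sympForm m F v ((toSp x).1 *ᵥ v) := by
  have hxsp : toSp x * toSp x = 1 := by rw [← toSp_mul, hx]; exact Subtype.ext rfl
  show plusQ m F (((toSp x).1 - 1) *ᵥ v) = _
  rw [Matrix.sub_mulVec, Matrix.one_mulVec, show (toSp x).1 *ᵥ v - v = v + (toSp x).1 *ᵥ v from
    funext fun i => by
      simp only [Pi.sub_apply, Pi.add_apply]
      linear_combination -(v i) * CharTwo.two_eq_zero (R := F),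
    plusQ_add, toSp_qStab]
  linear_combination plusQ m F v * CharTwo.two_eq_zero (R := F)

include hx

/-- The three types of centraliser orders. -/
theorem omega_centralizer_orders {s : ℕ}
    (hs : ((x.1 : Matrix (Fin m ⊕ Fin m) (Fin m ⊕ Fin m) F) - 1).rank = s) (hs1 : 1 ≤ s)
    (h : Fintype.card F ≠ 2 ∨ m ≠ 2) :
    s ≤ m ∧
    (((∀ v, plusQ m F (((x.1 : Matrix (Fin m ⊕ Fin m) (Fin m ⊕ Fin m) F) - 1) *ᵥ v) = 0) ∧ ∃ k, s = 2 * k ∧
        (s < m → Nat.card {g : ↥(Cfsg.Omega F ⇑(plusQ m F)) // (g : ↥(Cfsg.isometryGroup F ⇑(plusQ m F))) * x = x * g} *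
          (Fintype.card F ^ m * (Fintype.card F ^ (m - s) + 1)) =
          Fintype.card F ^ (s * (s + 1) / 2 + 2 * s * (m - s)) * spOrd F (m - s) * spOrd F k) ∧
        (s = m → Nat.card {g : ↥(Cfsg.Omega F ⇑(plusQ m F)) // (g : ↥(Cfsg.isometryGroup F ⇑(plusQ m F))) * x = x * g} *
          Fintype.card F ^ m = Fintype.card F ^ (s * (s + 1) / 2 + 2 * s * (m - s)) * spOrd F (m - s) * spOrd F k)) ∨
      ((¬ ∀ v, plusQ m F (((x.1 : Matrix (Fin m ⊕ Fin m) (Fin m ⊕ Fin m) F) - 1) *ᵥ v) = 0) ∧ ∃ c,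
        Nat.card {g : ↥(Cfsg.Omega F ⇑(plusQ m F)) // (g : ↥(Cfsg.isometryGroup F ⇑(plusQ m F))) * x = x * g} *
          Fintype.card F ^ (2 * m - s) = Fintype.card F ^ (s * (s + 1) / 2 + 2 * s * (m - s)) * spOrd F (m - s) * c ∧
        ((∃ k, s = 2 * k + 1 ∧ c = spOrd F k) ∨
          ∃ k, s = 2 * k + 2 ∧ c = Fintype.card F ^ (2 * k + 1) * spOrd F k))) := by
  have hxsp : toSp x * toSp x = 1 := by rw [← toSp_mul, hx]; exact Subtype.ext rfl
  obtain ⟨hsm, c, hc, hcase⟩ := card_centralizer (toSp x) (by rw [pow_two, hxsp]) s hs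
  have hm : 1 ≤ m := by omega
  obtain ⟨hgen, hne⟩ := omega_facts (F := F) h hm
  rw [card_centralizer_sp x hx hm] at hc
  refine ⟨hsm, ?_⟩
  rcases hcase with ⟨halt, k, hk, rfl⟩ | ⟨hna, hk⟩
  · have halt' : ∀ v, plusQ m F (((x.1 : Matrix (Fin m ⊕ Fin m) (Fin m ⊕ Fin m) F) - 1) *ᵥ v) = 0 := fun v => by
      rw [quad_moved_eq x hx]; exact halt v
    obtain ⟨hw, hg1, hg2⟩ := card_fixed_good_alt x hx hs hsm hs1 halt'
    refine Or.inl ⟨halt', k, hk, fun hlt => ?_, fun heq => ?_⟩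
    · obtain ⟨w, hw1, hw2⟩ := hw hlt
      rw [← hc, ← card_centralizer_omega x hx rfl hgen hne hw1 hw2, ← hg1 hlt]
      ring
    · rw [← hc, hg2 heq]
      congr 1
      refine Nat.card_congr ⟨fun g => ⟨g.1.1, Subgroup.mem_centralizer_singleton_iff.2 g.2⟩,
        fun g => ⟨⟨g.1, ?_⟩, Subgroup.mem_centralizer_singleton_iff.1 g.2⟩, fun g => rfl, fun g => rfl⟩
      refine CfsgLib.InvolCount.centralizer_le_omega (plusQ_nondeg m) hgen hne (m := m) ?_ x ?_ ?_ g.1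
        (Subgroup.mem_centralizer_singleton_iff.1 g.2)
      · rw [Fintype.card_sum, Fintype.card_fin, two_mul]
      · intro v
        refine Eq.trans ?_ (halt v)
        rw [CfsgLib.InvolCount.sympForm_eq_polar, ← plusQ_coe, QuadraticMap.polarBilin_apply_apply,
          Matrix.toLinAlgEquiv'_apply]
        rfl
      · rw [CfsgLib.InvolCount.invRk_eq]
        exact hs.trans heq
  · have hna' : ¬ ∀ v, plusQ m F (((x.1 : Matrix (Fin m ⊕ Fin m) (Fin m ⊕ Fin m) F) - 1) *ᵥ v) = 0 :=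
      fun h' => hna fun v => by rw [← quad_moved_eq x hx]; exact h' v
    obtain ⟨v, hv⟩ : ∃ v, plusQ m F (((x.1 : Matrix (Fin m ⊕ Fin m) (Fin m ⊕ Fin m) F) - 1) *ᵥ v) ≠ 0 := by
      by_contra h'; push Not at h'; exact hna' h'
    obtain ⟨⟨w, hw1, hw2⟩, hG⟩ := card_fixed_good_nonalt x hx hs ⟨v, hv⟩
    refine Or.inr ⟨hna', c, ?_, hk⟩
    rw [← hc, ← card_centralizer_omega x hx rfl hgen hne hw1 hw2, ← hG]
    ring

end CfsgLib.SpInvolCent
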