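import Cfsg.Agent.Lib.SpInvolCent.Main
import Cfsg.Agent.Lib.InvolCount.Reps
import Cfsg.Agent.Lib.CharTwoInv.MaxSingular
import Cfsg.Agent.Lib.Classical.SmallIso.Core
import Cfsg.Agent.Lib.OrthPoints.Models

/-!
The quadratic forms polarising to the standard alternating form in characteristic two as an orbit of the
symplectic group: `Q + B(u,·)²` lies in the orbit of the hyperbolic form exactly when `Q u` is of the
form `a² + a`.
-/

set_option autoImplicit false

namespace CfsgLib.SpInvolCent

open Module Matrix CfsgLib.SympGeom CfsgLib.CharTwoInv Cfsg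

variable {F : Type*} [Field F] [Fintype F] [CharP F 2] {m : ℕ}

omit [Fintype F] in
theorem plusQ_add (u v : Fin m ⊕ Fin m → F) :
    plusQ m F (u + v) = plusQ m F u + plusQ m F v + sympForm m F u v := by
  rw [plusQ_coe, CfsgLib.InvolCount.sympForm_eq_polar, QuadraticMap.polar]
  ring

/-- A symplectic map pulls `Q` back to `Q + B(u,·)²`. -/
theorem exists_param (g : symplecticGroup (Fin m) F) :
    ∃ u, ∀ v, plusQ m F (g.1 *ᵥ v) = plusQ m F v + sympForm m F u v * sympForm m F u v := by
  have : ExpChar F 2 := ExpChar.prime Nat.prime_two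
  have : PerfectRing F 2 := inferInstance
  have hsq : ∀ a : F, (frobeniusEquiv F 2).symm (a * a) = a := fun a => by
    rw [RingEquiv.symm_apply_eq, frobeniusEquiv_apply, frobenius_def, pow_two]
  let L : (Fin m ⊕ Fin m → F) →ₗ[F] F :=
    { toFun := fun v => (frobeniusEquiv F 2).symm (plusQ m F (g.1 *ᵥ v) + plusQ m F v)
      map_add' := fun x y => by
        rw [← map_add (frobeniusEquiv F 2).symm]
        congr 1
        rw [Matrix.mulVec_add, plusQ_add, plusQ_add, CfsgLib.Linear.Symp.form_mulVec g.2]
        linear_combination sympForm m F x y * CharTwo.two_eq_zero (R := F)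
      map_smul' := fun c x => by
        rw [Matrix.mulVec_smul, QuadraticMap.map_smul, QuadraticMap.map_smul, ← smul_add]
        simp only [smul_eq_mul, RingHom.id_apply]
        rw [map_mul, hsq] }
  have hinj : Function.Injective (sympBilin m F) :=
    (injective_iff_map_eq_zero _).2 fun x hx => sympBilin_nondeg.1 x fun y => by rw [hx]; rfl
  obtain ⟨u, hu⟩ :=
    (LinearMap.injective_iff_surjective_of_finrank_eq_finrank Subspace.dual_finrank_eq.symm).1 hinj L
  refine ⟨u, fun v => ?_⟩
  rw [show sympForm m F u v = L v from LinearMap.congr_fun hu v]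
  show _ = _ + (frobeniusEquiv F 2).symm _ * (frobeniusEquiv F 2).symm _
  have h := (frobeniusEquiv F 2).apply_symm_apply (plusQ m F (g.1 *ᵥ v) + plusQ m F v)
  rw [frobeniusEquiv_apply, frobenius_def, pow_two] at h
  rw [h]
  linear_combination (-(plusQ m F v)) * CharTwo.two_eq_zero (R := F)

/-- The parameter of the pulled back form. -/
noncomputable def param (g : symplecticGroup (Fin m) F) : Fin m ⊕ Fin m → F := (exists_param g).choose

theorem param_spec (g : symplecticGroup (Fin m) F) (v : Fin m ⊕ Fin m → F) :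
    plusQ m F (g.1 *ᵥ v) = plusQ m F v + sympForm m F (param g) v * sympForm m F (param g) v :=
  (exists_param g).choose_spec v

variable (m F) in
/-- The symplectic maps preserving the hyperbolic quadratic form. -/
def qStab : Subgroup (symplecticGroup (Fin m) F) where
  carrier := {g | ∀ v, plusQ m F (g.1 *ᵥ v) = plusQ m F v}
  one_mem' := fun v => by rw [Submonoid.coe_one, Matrix.one_mulVec]
  mul_mem' := fun {a b} ha hb v => by rw [Submonoid.coe_mul, ← Matrix.mulVec_mulVec, ha, hb]
  inv_mem' := fun {a} ha v => by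
    have := ha ((a⁻¹).1 *ᵥ v)
    rw [Matrix.mulVec_mulVec, ← Submonoid.coe_mul, mul_inv_cancel, Submonoid.coe_one, Matrix.one_mulVec] at this
    exact this.symm

theorem param_eq_iff (g g' : symplecticGroup (Fin m) F) :
    param g = param g' ↔ g' * g⁻¹ ∈ qStab F m := by
  constructor
  · intro h v
    rw [Submonoid.coe_mul, ← Matrix.mulVec_mulVec, param_spec, ← h, ← param_spec, Matrix.mulVec_mulVec,
      ← Submonoid.coe_mul, mul_inv_cancel, Submonoid.coe_one, Matrix.one_mulVec]
  · intro h
    refine sub_eq_zero.1 (sympBilin_nondeg.1 _ fun v => ?_)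
    rw [map_sub, LinearMap.sub_apply, sympBilin_apply, sympBilin_apply]
    have hv := h (g.1 *ᵥ v)
    rw [Matrix.mulVec_mulVec, ← Submonoid.coe_mul, inv_mul_cancel_right, param_spec, param_spec] at hv
    have h2 : (sympForm m F (param g) v - sympForm m F (param g') v) *
        (sympForm m F (param g) v - sympForm m F (param g') v) = 0 := by
      linear_combination -hv + (sympForm m F (param g') v * sympForm m F (param g') v -
        sympForm m F (param g) v * sympForm m F (param g') v) * CharTwo.two_eq_zero (R := F)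
    exact mul_self_eq_zero.1 h2

/-- A subgroup splits over its orbit of forms. -/
theorem card_eq_stab_mul_params (S : Subgroup (symplecticGroup (Fin m) F)) :
    Nat.card S = Nat.card (S ⊓ qStab F m : Subgroup (symplecticGroup (Fin m) F)) *
      Nat.card (param '' (S : Set (symplecticGroup (Fin m) F))) := by
  classical
  let f : S → param '' (S : Set (symplecticGroup (Fin m) F)) := fun g => ⟨param g.1, g.1, g.2, rfl⟩
  haveI : Fintype (param '' (S : Set (symplecticGroup (Fin m) F))) := Fintype.ofFinite _
  have hfib : ∀ u, Nat.card {g : S // f g = u} = Nat.card (S ⊓ qStab F m : Subgroup (symplecticGroup (Fin m) F)) := by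
    rintro ⟨_, g₀, hg₀, rfl⟩
    refine Nat.card_congr ⟨fun g => ⟨g.1.1 * g₀⁻¹, S.mul_mem g.1.2 (S.inv_mem hg₀), (param_eq_iff _ _).1
        (congrArg Subtype.val g.2).symm⟩,
      fun h => ⟨⟨h.1 * g₀, S.mul_mem h.2.1 hg₀⟩, Subtype.ext ((param_eq_iff g₀ (h.1 * g₀)).2
        (by rw [mul_inv_cancel_right]; exact h.2.2)).symm⟩,
      fun g => Subtype.ext (Subtype.ext (inv_mul_cancel_right _ _)),
      fun h => Subtype.ext (mul_inv_cancel_right _ _)⟩
  rw [← Nat.card_congr (Equiv.sigmaFiberEquiv f), Nat.card_sigma, Finset.sum_congr rfl fun u _ => hfib u,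
    Finset.sum_const, Finset.card_univ, smul_eq_mul, ← Nat.card_eq_fintype_card, mul_comm]

variable (m F) in
/-- Parameters whose value is of the form `a² + a`. -/
def goodSet : Set (Fin m ⊕ Fin m → F) := {u | ∃ a : F, plusQ m F u = a * a + a}

theorem goodSet_subset : goodSet F m ⊆ Set.range (param (F := F) (m := m)) := by
  rintro u ⟨a, ha⟩
  obtain ⟨c, hc⟩ : ∃ c : F, c * c * plusQ m F u + c = 1 := by
    rcases eq_or_ne (plusQ m F u) 0 with h | h
    · exact ⟨1, by rw [h]; ring⟩
    · refine ⟨a / plusQ m F u, ?_⟩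
      field_simp
      linear_combination -ha
  let T : (Fin m ⊕ Fin m → F) →ₗ[F] (Fin m ⊕ Fin m → F) :=
    LinearMap.id + c • ((sympBilin m F u).smulRight u)
  have hT : ∀ v, T v = v + (c * sympForm m F u v) • u := fun v => by simp [T, smul_smul]
  have hiso : ∀ v w, sympForm m F (T v) (T w) = sympForm m F v w := fun v w => by
    simp only [← sympBilin_apply, hT, map_add, map_smul, LinearMap.add_apply, LinearMap.smul_apply, smul_eq_mul,
      sympBilin_alt u]
    rw [← LinearMap.IsAlt.neg (B := sympBilin m F) sympBilin_alt u v, CharTwo.neg_eq]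
    linear_combination (c * sympBilin m F u v * sympBilin m F u w) * CharTwo.two_eq_zero (R := F)
  obtain ⟨A, hA⟩ := exists_of_linearEquiv (LinearEquiv.ofInjectiveEndo T
    ((injective_iff_map_eq_zero _).2 fun v hv => sympBilin_nondeg.1 v fun w => by
      rw [sympBilin_apply, ← hiso, hv, ← sympBilin_apply, map_zero, LinearMap.zero_apply])) hiso
  refine ⟨A, sub_eq_zero.1 (sympBilin_nondeg.1 _ fun v => ?_)⟩
  have h := param_spec A v
  rw [hA, show (LinearEquiv.ofInjectiveEndo T _) v = T v from rfl, hT, plusQ_add, QuadraticMap.map_smul,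
    ← sympBilin_apply, ← sympBilin_apply, map_smul, ← LinearMap.IsAlt.neg (B := sympBilin m F) sympBilin_alt u v,
    CharTwo.neg_eq] at h
  rw [map_sub, LinearMap.sub_apply, sympBilin_apply, sympBilin_apply]
  simp only [sympBilin_apply, smul_eq_mul] at h
  have h2 : (sympForm m F (param A) v - sympForm m F u v) * (sympForm m F (param A) v - sympForm m F u v) = 0 := by
    linear_combination -h + sympForm m F u v * sympForm m F u v * hc -
      sympForm m F u v * (sympForm m F (param A) v - sympForm m F u v) * CharTwo.two_eq_zero (R := F)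
  exact mul_self_eq_zero.1 h2

/-- Counting elements with value of the form `a² + a` from the sizes of the levels. -/
theorem card_good {X : Type*} [Finite X] (φ : X → F) {N₀ N₁ : ℕ}
    (h0 : Nat.card {x // φ x = 0} = N₀) (h1 : ∀ c, c ≠ 0 → Nat.card {x // φ x = c} = N₁) :
    2 * Nat.card {x // ∃ a : F, φ x = a * a + a} + 2 * N₁ = 2 * N₀ + Fintype.card F * N₁ := by
  classical
  have : Fintype X := Fintype.ofFinite X
  let p : F →+ F :=
    { toFun := fun a => a * a + a
      map_zero' := by ring
      map_add' := fun a b => by linear_combination (a * b) * CharTwo.two_eq_zero (R := F) }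
  have hker : Nat.card p.ker = 2 := by
    have : p.ker.carrier = ({0, 1} : Set F) := by
      ext a
      show a * a + a = 0 ↔ _
      refine ⟨fun h => ?_, ?_⟩
      · rcases mul_eq_zero.1 (show a * (a + 1) = 0 by linear_combination h) with h | h
        · exact Or.inl h
        · exact Or.inr (by rw [Set.mem_singleton_iff, eq_neg_of_add_eq_zero_left h, CharTwo.neg_eq])
      · rintro (rfl | rfl)
        · ring
        · rw [mul_one, CharTwo.add_self_eq_zero]
    rw [← Set.ncard_pair (zero_ne_one' F), ← this, ← Nat.card_coe_set_eq]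
    rfl
  have hrange : 2 * Nat.card p.range = Fintype.card F := by
    rw [← hker, mul_comm, ← AddSubgroup.index_ker, AddSubgroup.index_mul_card, Nat.card_eq_fintype_card]
  have hgood : Nat.card {x // ∃ a : F, φ x = a * a + a} = ∑ c : p.range, Nat.card {x // φ x = c.1} := by
    rw [← Nat.card_sigma]
    exact Nat.card_congr ⟨fun x => ⟨⟨φ x.1, by obtain ⟨a, ha⟩ := x.2; exact ⟨a, ha.symm⟩⟩, x.1, rfl⟩,
      fun y => ⟨y.2.1, by obtain ⟨a, ha⟩ := y.1.2; exact ⟨a, y.2.2.trans ha.symm⟩⟩,
      fun x => rfl, fun y => Sigma.subtype_ext (Subtype.ext y.2.2) rfl⟩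
  have hsum : (∑ c : p.range, Nat.card {x // φ x = c.1}) + N₁ = N₀ + Nat.card p.range * N₁ := by
    rw [Fintype.sum_eq_add_sum_compl (0 : p.range), ZeroMemClass.coe_zero, h0,
      Finset.sum_congr rfl fun c hc => h1 c.1 fun h => by
        rw [Finset.mem_compl, Finset.mem_singleton] at hc
        exact hc (Subtype.ext h),
      Finset.sum_const, Finset.card_compl, Finset.card_singleton, smul_eq_mul, Nat.card_eq_fintype_card, add_assoc]
    congr 1
    have : 0 < Fintype.card p.range := Fintype.card_pos
    conv_rhs => rw [show Fintype.card p.range = Fintype.card p.range - 1 + 1 by omega]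
    ring
  rw [← hrange, hgood]
  nlinarith [hsum]

open scoped _root_.Classical in
/-- The levels of the hyperbolic form. -/
theorem card_level_plus (c : F) :
    Nat.card {v : Fin m ⊕ Fin m → F // plusQ m F v = c} =
      (Fintype.card F ^ m - 1) * Fintype.card F ^ (m - 1) + if c = 0 then Fintype.card F ^ m else 0 := by
  open CfsgLib.Classical.Quad in
  rw [plusQ_coe, Nat.card_congr ((plusEquiv m F).toEquiv.subtypeEquiv
    (q := fun w => hypForm m (zeroKernel F) w = c) fun v => by
      show _ ↔ hypForm m (zeroKernel F) (plusEquiv m F v) = c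
      rw [plusEquiv_spec]), card_level_hypForm]
  open CfsgLib.Classical.Quad in
  split_ifs with hc
  · subst hc
    rw [card_zeros_zeroKernel]
    simp [Nat.card_eq_fintype_card]
  · have h : IsEmpty {w : Fin 0 → F // zeroKernel F w = c} :=
      ⟨fun w => hc (w.2.symm.trans (by rw [Subsingleton.elim w.1 0, QuadraticMap.map_zero]))⟩
    rw [Nat.card_of_isEmpty (α := {w : Fin 0 → F // zeroKernel F w = c})]
    simp [Nat.card_eq_fintype_card]

/-- Arithmetic: the orbit of the hyperbolic form. -/
theorem two_mul_card_goodSet (hm : 1 ≤ m) :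
    2 * Nat.card (goodSet F m) = Fintype.card F ^ m * (Fintype.card F ^ m + 1) := by
  have h := card_good (fun v : Fin m ⊕ Fin m → F => plusQ m F v)
    (card_level_plus 0) (fun c hc => (card_level_plus c).trans (by rw [if_neg hc, add_zero]))
  rw [if_pos rfl] at h
  obtain ⟨n, rfl⟩ : ∃ n, m = n + 1 := ⟨m - 1, by omega⟩
  obtain ⟨A, hA⟩ : ∃ A, Fintype.card F ^ (n + 1) = A + 1 := ⟨_, (Nat.succ_pred (pow_pos Fintype.card_pos (n + 1)).ne').symm⟩
  have e : Nat.card {x : Fin (n + 1) ⊕ Fin (n + 1) → F // ∃ a : F, plusQ (n + 1) F x = a * a + a} =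
      Nat.card (goodSet F (n + 1)) := rfl
  rw [e] at h
  rw [Nat.add_sub_cancel] at h
  have hq : Fintype.card F * Fintype.card F ^ n = A + 1 := by rw [← hA, pow_succ, mul_comm]
  rw [hA] at h ⊢
  simp only [Nat.add_sub_cancel] at h
  nlinarith

/-- The forms in the orbit of the hyperbolic one are the good ones. -/
theorem range_param (hm : 1 ≤ m) : Set.range (param (F := F) (m := m)) = goodSet F m := by
  refine (Set.eq_of_subset_of_ncard_le goodSet_subset ?_ (Set.toFinite _)).symm
  rw [← Nat.card_coe_set_eq, ← Nat.card_coe_set_eq]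
  have h := card_eq_stab_mul_params (⊤ : Subgroup (symplecticGroup (Fin m) F))
  rw [top_inf_eq, Subgroup.card_top, Subgroup.coe_top, Set.image_univ, CfsgLib.Linear.Symp.card_symplectic] at h
  have hiso : Nat.card (qStab F m) = Nat.card (Cfsg.isometryGroup F (Cfsg.quadFormPlus m F)) :=
    Nat.card_congr
      { toFun := fun g => ⟨CfsgLib.RootCount.spHom m F g.1, (CfsgLib.CharTwoInv.mem_iso_iff _).2 fun v => by
          simp only [← plusQ_coe]; exact g.2 v⟩
        invFun := fun g => ⟨⟨(g.1 : Matrix (Fin m ⊕ Fin m) (Fin m ⊕ Fin m) F),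
            CfsgLib.Linear.Symp.mem_of_form_mulVec fun u v => by
              have hg := (CfsgLib.CharTwoInv.mem_iso_iff _).1 g.2
              rw [CfsgLib.InvolCount.sympForm_eq_polar, CfsgLib.InvolCount.sympForm_eq_polar,
                QuadraticMap.polar, QuadraticMap.polar, ← Matrix.mulVec_add, hg, hg, hg]⟩,
          fun v => by rw [plusQ_coe]; exact (CfsgLib.CharTwoInv.mem_iso_iff _).1 g.2 v⟩
        left_inv := fun g => rfl
        right_inv := fun g => Subtype.ext (Units.ext rfl) }
  have hG := two_mul_card_goodSet (F := F) hm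
  obtain ⟨n, rfl⟩ : ∃ n, m = n + 1 := ⟨m - 1, by omega⟩
  rw [hiso, CfsgLib.Classical.SmallIso.card_isometryGroup_plus, Nat.card_eq_fintype_card (α := F),
    Finset.prod_range_succ] at h
  set q := Fintype.card F with hq
  have hq1 : 1 < q := Fintype.one_lt_card
  obtain ⟨A, hA⟩ : ∃ A, q ^ (n + 1) = A + 1 := ⟨_, (Nat.succ_pred (pow_pos (by omega : 0 < q) (n + 1)).ne').symm⟩
  have hA0 : 0 < A := by
    have := Nat.one_lt_pow (Nat.succ_ne_zero n) hq1
    rw [hA] at this; omega
  rw [pow_mul' q 2 (n + 1), hA, show (n + 1) ^ 2 = (n + 1) * n + (n + 1) by ring, pow_add, hA,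
    show (A + 1) ^ 2 - 1 = A * (A + 2) from Nat.sub_eq_of_eq_add (by ring), Nat.add_sub_cancel] at h
  rw [hA] at hG
  have hP : 0 < q ^ ((n + 1) * n) * A * ∏ i ∈ Finset.range n, (q ^ (2 * (i + 1)) - 1) :=
    Nat.mul_pos (Nat.mul_pos (pow_pos (by omega) _) hA0) (Finset.prod_pos fun i _ =>
      Nat.sub_pos_of_lt (Nat.one_lt_pow (by omega) hq1))
  exact le_of_eq (Nat.eq_of_mul_eq_mul_left (Nat.mul_pos two_pos hP) (by nlinarith [h, congrArg (fun z => (q ^ ((n + 1) * n) * A * ∏ i ∈ Finset.range n, (q ^ (2 * (i + 1)) - 1)) * z) hG]))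

end CfsgLib.SpInvolCent
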